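import Groth.Agent.SymCurve.Chart
import Groth.Agent.SymProdLib.Compare
import Groth.Agent.FppfSource.Scheme
import Groth.Agent.QuotScheme.Props
import Groth.Prelude.Def_Mor2

/-!
# Symmetric powers of smooth proper curves
-/

set_option autoImplicit false
set_option linter.style.haveILetI false
set_option maxHeartbeats 1000000

universe u

open CategoryTheory CategoryTheory.Limits AlgebraicGeometry SymProd
open Groth.Agent.SymProdLib

namespace Groth.Agent.SymCurve

variable {X S Y : Scheme.{u}}

/-- Fibre powers inherit properties stable under composition and base change. -/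
theorem prop_fibPow_base (P : MorphismProperty Scheme.{u}) [P.IsStableUnderBaseChange] [P.IsStableUnderComposition]
    (hiso : ∀ {A B : Scheme.{u}} (φ : A ⟶ B) [IsIso φ], P φ) (f : X ⟶ S) (hf : P f) :
    ∀ m : ℕ, P (WidePullback.base fun _ : Fin m => f) := by
  intro m
  induction m with
  | zero =>
    haveI := isIso_base_zero f
    exact hiso _
  | succ m ih =>
    obtain ⟨t, -, htb, hP⟩ := exists_isPullback_succ f m
    rw [← htb]
    exact P.comp_mem _ _ (P.of_isPullback hP hf) ih

theorem lfp_of_lft_noeth {X Y : Scheme.{u}} (f : X ⟶ Y) [IsLocallyNoetherian Y] [LocallyOfFiniteType f] :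
    LocallyOfFinitePresentation f := by
  refine (HasRingHomProperty.iff_appLE (P := @LocallyOfFinitePresentation)).mpr fun V W e => ?_
  haveI : IsNoetherianRing Γ(Y, V) := IsLocallyNoetherian.component_noetherian V
  exact RingHom.FinitePresentation.of_finiteType.mp (HasRingHomProperty.appLE @LocallyOfFiniteType f ‹_› V W e)

variable {f : X ⟶ S} {n : ℕ} {q : fibPow f n ⟶ Y} {g : Y ⟶ S}

/-- The quotient map of a symmetric power of a smooth curve is flat, of rank `n!`. -/
theorem flat_and_rank_global [IsLocallyNoetherian S] [SmoothOfRelativeDimension 1 f] (hAF : IsAF f)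
    (hq : IsSymProd f n q g) :
    Flat q ∧ IsFinite q ∧ LocallyOfFinitePresentation q ∧ ∀ [Flat q] [IsFinite q], ∀ y, q.finrank y = n.factorial := by
  classical
  haveI : Smooth f := SmoothOfRelativeDimension.smooth 1 f
  haveI : Smooth (WidePullback.base fun _ : Fin n => f) := prop_fibPow_base @Smooth (fun φ _ => inferInstance) f inferInstance n
  haveI := QuotScheme.locallyOfFiniteType_of_isQuot hq.isQuot hq.over
  haveI hfin := QuotScheme.isFinite_of_isQuot hq.isQuot hq.over
  haveI : IsLocallyNoetherian Y := LocallyOfFiniteType.isLocallyNoetherian g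
  haveI hlfp : LocallyOfFinitePresentation q := lfp_of_lft_noeth q
  haveI : LocallyOfFinitePresentation (q ≫ g) := by rw [hq.over]; infer_instance
  haveI : Flat (q ≫ g) := by rw [hq.over]; infer_instance
  -- every point, after an extension with infinite residue field
  have key : ∀ z : fibPow f n, FibreFlat.FlatAt q z ∧ ∀ [Flat q] [IsFinite q], q.finrank (q z) = n.factorial := by
    intro z
    let s := (WidePullback.base fun _ : Fin n => f) z
    obtain ⟨V, hV, hsV, -⟩ := exists_isAffineOpen_mem_and_subset (X := S) (x := s) (U := ⊤) trivial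
    haveI : IsNoetherianRing Γ(S, V) := IsLocallyNoetherian.component_noetherian ⟨V, hV⟩
    let p := (hV.primeIdealOf ⟨s, hsV⟩).asIdeal
    let R' : CommRingCat.{u} := CommRingCat.of (Polynomial Γ(S, V))
    haveI : IsNoetherianRing R' := inferInstanceAs (IsNoetherianRing (Polynomial Γ(S, V)))
    let b : Spec R' ⟶ S := Spec.map (CommRingCat.ofHom (Polynomial.C (R := Γ(S, V)))) ≫ hV.fromSpec
    let pt : PrimeSpectrum R' := ⟨p.map (Polynomial.C : Γ(S, V) →+* Polynomial Γ(S, V)), Ideal.isPrime_map_C_of_isPrime⟩
    let s' : ↥(Spec R') := pt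
    have hs' : b s' = s := by
      have hpt : Spec.map (CommRingCat.ofHom (Polynomial.C (R := Γ(S, V)))) s' = hV.primeIdealOf ⟨s, hsV⟩ := by
        refine PrimeSpectrum.ext ?_
        change (p.map (Polynomial.C : Γ(S, V) →+* Polynomial Γ(S, V))).comap Polynomial.C = p
        ext r
        rw [Ideal.mem_comap, Ideal.mem_map_C_iff]
        refine ⟨fun h => by simpa using h 0, fun h m => ?_⟩
        rw [Polynomial.coeff_C]
        split_ifs
        · exact h
        · exact p.zero_mem
      rw [Scheme.Hom.comp_apply, hpt, hV.fromSpec_primeIdealOf]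
    haveI : Infinite ((Spec R').residueField s') := by
      let ev : (R' : Type u) →+* (Spec R').residueField s' :=
        (((Spec R').evaluation ⊤ s' trivial).hom).comp (Scheme.ΓSpecIso R').inv.hom
      have hev : ∀ r : R', ev r = 0 ↔ r ∈ pt.asIdeal := fun r => by
        refine (Scheme.evaluation_eq_zero_iff_notMem_basicOpen _ _ _ _).trans ?_
        rw [basicOpen_eq_of_affine]
        exact not_not
      refine Infinite.of_injective (fun m : ℕ => ev (Polynomial.X ^ m)) fun m m' h => ?_
      by_contra hne
      have h' : ev (Polynomial.X ^ m - Polynomial.X ^ m') = 0 := by rw [map_sub]; exact sub_eq_zero.2 h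
      rw [hev] at h'
      have h2 := Ideal.mem_map_C_iff.1 h' m
      rw [Polynomial.coeff_sub, Polynomial.coeff_X_pow, Polynomial.coeff_X_pow, if_pos rfl,
        if_neg hne, sub_zero] at h2
      exact (hV.primeIdealOf ⟨s, hsV⟩).isPrime.ne_top ((Ideal.eq_top_iff_one _).2 h2)
    haveI : SmoothOfRelativeDimension 1 (pullback.snd f b) :=
      (smoothOfRelativeDimension_isStableUnderBaseChange 1).of_isPullback (IsPullback.of_hasPullback f b) ‹_›
    haveI : Smooth (pullback.snd f b) := SmoothOfRelativeDimension.smooth 1 _
    haveI : Smooth (WidePullback.base fun _ : Fin n => pullback.snd f b) := prop_fibPow_base @Smooth (fun φ _ => inferInstance) _ inferInstance n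
    have hbV : ∀ t, b t ∈ V := fun t => by
      rw [Scheme.Hom.comp_apply]
      exact hV.range_fromSpec.le ⟨_, rfl⟩
    have hAF' : IsAF (pullback.snd f b) := by
      intro t T hT
      have hT' : ∀ x ∈ T.image (pullback.fst f b), f x = b t := fun x hx => by
        obtain ⟨w, hw, rfl⟩ := Finset.mem_image.1 hx
        rw [← hT w hw]
        exact congrArg (fun φ : pullback f b ⟶ S => φ w) pullback.condition
      obtain ⟨U₀, hU₀, hTU₀⟩ := hAF (b t) (T.image (pullback.fst f b)) hT'
      obtain ⟨a, haV, haT⟩ := SymAF.exists_basicOpen_finset hU₀ _ hTU₀ (f ⁻¹ᵁ V) fun x hx => by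
        show f x ∈ V
        rw [hT' x hx]; exact hbV t
      have hUa : IsAffineOpen (X.basicOpen a) := hU₀.basicOpen a
      refine ⟨pullback.fst f b ⁻¹ᵁ X.basicOpen a ⊓ pullback.snd f b ⁻¹ᵁ ⊤, ?_,
        fun x hx => ⟨haT _ (Finset.mem_image_of_mem _ hx), trivial⟩⟩
      haveI : IsAffine (X.basicOpen a : Scheme.{u}) := hUa
      haveI : IsAffine (V : Scheme.{u}) := hV
      haveI : IsAffine ((⊤ : (Spec R').Opens) : Scheme.{u}) := isAffineOpen_top _
      exact .of_isIso (Scheme.Hom.isPullback_resLE (IsPullback.of_hasPullback f b)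
        (fun t _ => hbV t) haV rfl).isoPullback.hom
    let c : fibPow (pullback.snd f b) n ⟶ fibPow f n := WidePullback.lift
      (WidePullback.base (fun _ : Fin n => pullback.snd f b) ≫ b)
      (fun i => WidePullback.π (fun _ : Fin n => pullback.snd f b) i ≫ pullback.fst f b) fun i => by
        rw [Category.assoc, pullback.condition, WidePullback.π_arrow_assoc]
    have hcπ : ∀ i, c ≫ WidePullback.π (fun _ => f) i =
        WidePullback.π (fun _ => pullback.snd f b) i ≫ pullback.fst f b := fun i => WidePullback.lift_π _ _ _ _ i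
    have hcb : c ≫ WidePullback.base (fun _ => f) = WidePullback.base (fun _ => pullback.snd f b) ≫ b :=
      WidePullback.lift_base _ _ _ _
    let q' : fibPow (pullback.snd f b) n ⟶ pullback g b :=
      pullback.lift (c ≫ q) (WidePullback.base _) (by rw [Category.assoc, hq.over, hcb])
    have hq'₁ : q' ≫ pullback.fst g b = c ≫ q := pullback.lift_fst _ _ _
    have hq'₂ : q' ≫ pullback.snd g b = WidePullback.base (fun _ => pullback.snd f b) := pullback.lift_snd _ _ _
    have hq' := isSymProd_baseChange hAF hq b c hcπ hcb q' hq'₁ hq'₂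
    have hP := isPullback_fibPow f b c hcπ hcb
    have sqX : IsPullback c q' q (pullback.fst g b) := by
      refine IsPullback.of_bot ?_ hq'₁.symm (IsPullback.of_hasPullback g b)
      rw [hq'₂, hq.over]
      exact hP
    obtain ⟨z', hz'c, hz'b⟩ := Scheme.exists_preimage_of_isPullback hP z s' hs'.symm
    haveI : IsLocallyNoetherian (pullback g b) := LocallyOfFiniteType.isLocallyNoetherian (pullback.snd g b)
    obtain ⟨U, W', hU, hUV, hzW, hW, hWV, hpre⟩ :=
      exists_chart hAF' hq' (q' z') (isAffineOpen_top (Spec R')) trivial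
    haveI : IsNoetherianRing Γ(Spec R', ⊤) := IsLocallyNoetherian.component_noetherian ⟨⊤, isAffineOpen_top _⟩
    have hzb : z' ∈ box (pullback.snd f b) n U ⊤ := hpre.le hzW
    haveI : Infinite ((Spec R').residueField ((WidePullback.base fun _ : Fin n => pullback.snd f b) z')) := by
      rw [hz'b]; infer_instance
    obtain ⟨hfl, hrk⟩ := flat_and_rank hq' (isAffineOpen_top (Spec R')) hU hUV hW hWV hpre z' hzb
    refine ⟨?_, ?_⟩
    · have h := FibreFlat.flatAt_of_baseChange (IsPullback.of_hasPullback g b) sqX hfl
      rwa [hz'c] at h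
    · intro _ _
      haveI : Flat q' := MorphismProperty.of_isPullback sqX ‹Flat q›
      haveI : IsFinite q' := MorphismProperty.of_isPullback sqX ‹IsFinite q›
      have h := Scheme.Hom.finrank_of_isPullback _ _ _ _ sqX (q' z')
      rw [hrk, ← Scheme.Hom.comp_apply, hq'₁, Scheme.Hom.comp_apply, hz'c] at h
      exact h.symm
  have hflat : Flat q := Flat.of_stalkMap q fun z => (key z).1
  refine ⟨hflat, hfin, hlfp, ?_⟩
  intro _ _ y
  obtain ⟨z, rfl⟩ := QuotScheme.surjective hq.isQuot y
  exact (key z).2

/-- Symmetric powers of smooth proper curves are smooth and proper. -/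
theorem proper_and_smooth [IsLocallyNoetherian S] [IsProper f] [SmoothOfRelativeDimension 1 f] (hAF : IsAF f)
    (hq : IsSymProd f n q g) : IsProper g ∧ Smooth g := by
  haveI : Smooth f := SmoothOfRelativeDimension.smooth 1 f
  haveI : Smooth (WidePullback.base fun _ : Fin n => f) := prop_fibPow_base @Smooth (fun φ _ => inferInstance) f inferInstance n
  haveI : IsProper (WidePullback.base fun _ : Fin n => f) := prop_fibPow_base @IsProper (fun φ _ => inferInstance) f inferInstance n
  obtain ⟨hflat, hfin, hlfp, -⟩ := flat_and_rank_global hAF hq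
  haveI := hflat
  haveI := hlfp
  haveI : Surjective q := ⟨QuotScheme.surjective hq.isQuot⟩
  haveI : Smooth (q ≫ g) := by rw [hq.over]; infer_instance
  haveI : UniversallyClosed (q ≫ g) := by rw [hq.over]; infer_instance
  haveI := QuotScheme.locallyOfFiniteType_of_isQuot hq.isQuot hq.over
  haveI : IsSeparated g := (QuotScheme.isSeparated_iff_of_isQuot hq.isQuot hq.over).1 inferInstance
  haveI : UniversallyClosed g := UniversallyClosed.of_comp_surjective q g
  exact ⟨{}, FppfSource.smooth q g⟩

end Groth.Agent.SymCurve
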