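import Groth.Agent.SymCurve.Sep
import Groth.Agent.SymProdLib.Main
import Groth.Agent.SymProdLib.CBox
import Groth.Agent.QuotScheme.Residue
import Groth.Agent.FibreFlat.PointCrit

/-!
# Symmetric powers of smooth curves: the quotient map on a box over a big residue field
-/

set_option autoImplicit false
set_option linter.style.haveILetI false
set_option maxHeartbeats 2000000

universe u

open CategoryTheory CategoryTheory.Limits AlgebraicGeometry SymProd
open scoped TensorProduct
open Groth.Agent.SymProdLib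

namespace Groth.Agent.SymCurve

variable {X S Y : Scheme.{u}} {f : X ⟶ S} {n : ℕ}

theorem isCurveAlg_appLE [SmoothOfRelativeDimension 1 f] {U : X.Opens} {V : S.Opens} (hU : IsAffineOpen U)
    (hV : IsAffineOpen V) (hUV : U ≤ f ⁻¹ᵁ V) :
    letI := (f.appLE V U hUV).hom.toAlgebra
    IsCurveAlg Γ(S, V) Γ(X, U) := by
  letI := (f.appLE V U hUV).hom.toAlgebra
  intro Q hQ
  obtain ⟨s, hs, hP⟩ := HasRingHomProperty.appLE (@SmoothOfRelativeDimension 1) f inferInstance ⟨V, hV⟩ ⟨U, hU⟩ hUV
  obtain ⟨g, hgs, hgQ⟩ : ∃ g ∈ s, g ∉ Q := by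
    by_contra h
    push Not at h
    exact hQ.ne_top (top_le_iff.1 (hs ▸ Ideal.span_le.2 h))
  refine ⟨g, hgQ, ?_⟩
  have h := hP g hgs
  rw [show (algebraMap Γ(X, U) (Localization.Away g)).comp (f.appLE V U hUV).hom =
    algebraMap Γ(S, V) (Localization.Away g) from (IsScalarTower.algebraMap_eq _ _ _).symm] at h
  exact (RingHom.isStandardSmoothOfRelativeDimension_algebraMap 1).1 h

set_option backward.isDefEq.respectTransparency false in
/-- On a box over a base point with infinite residue field the quotient map is flat of rank `n!`. -/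
theorem flat_and_rank [SmoothOfRelativeDimension 1 f] [LocallyOfFiniteType (WidePullback.base fun _ : Fin n => f)]
    {q : fibPow f n ⟶ Y} {g : Y ⟶ S} [LocallyOfFiniteType g] (hq : IsSymProd f n q g)
    {V : S.Opens} (hV : IsAffineOpen V) [IsNoetherianRing Γ(S, V)]
    {U : X.Opens} (hU : IsAffineOpen U) (hUV : U ≤ f ⁻¹ᵁ V)
    {W' : Y.Opens} (hW : IsAffineOpen W') (hWV : W' ≤ g ⁻¹ᵁ V) (hpre : q ⁻¹ᵁ W' = box f n U V)
    (z : fibPow f n) (hz : z ∈ box f n U V)
    [Infinite (S.residueField ((WidePullback.base fun _ : Fin n => f) z))] :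
    FibreFlat.FlatAt q z ∧ ∀ [Flat q] [IsFinite q], q.finrank (q z) = n.factorial := by
  classical
  let O := box f n U V
  have hO : IsAffineOpen O := isAffineOpen_box hU hV hUV
  have hst : ∀ σ : Equiv.Perm (Fin n), O ≤ (permHom f n σ⁻¹) ⁻¹ᵁ O := fun σ => box_le_perm σ⁻¹
  letI algU := (f.appLE V U hUV).hom.toAlgebra
  letI algA : Algebra Γ(S, V) Γ(fibPow f n, O) := bAlg box_le_base
  letI algA₀ := (g.appLE V W' hWV).hom.toAlgebra
  letI algq : Algebra Γ(Y, W') Γ(fibPow f n, O) := (q.appLE W' O hpre.ge).hom.toAlgebra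
  haveI : IsScalarTower Γ(S, V) Γ(Y, W') Γ(fibPow f n, O) := IsScalarTower.of_algebraMap_eq fun r => by
    change _ = (q.appLE W' O _).hom ((g.appLE V W' hWV).hom r)
    rw [← CommRingCat.comp_apply, Scheme.Hom.appLE_comp_appLE,
      Groth.Agent.QuotScheme.appLE_congr_hom hq.over V _ _ box_le_base]
    rfl
  let ac := actHom (V := V) box_le_base hst
  letI act : MulSemiringAction (SG.{u} n) Γ(fibPow f n, O) :=
    { smul := fun σ a => ac σ.down a
      one_smul := fun a => AlgHom.congr_fun (map_one ac) a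
      mul_smul := fun σ τ a => AlgHom.congr_fun (map_mul ac σ.down τ.down) a
      smul_zero := fun σ => map_zero (ac σ.down)
      smul_add := fun σ => map_add (ac σ.down)
      smul_one := fun σ => map_one (ac σ.down)
      smul_mul := fun σ => map_mul (ac σ.down) }
  haveI : SMulCommClass (SG.{u} n) Γ(S, V) Γ(fibPow f n, O) := ⟨fun σ r a => map_smul (ac σ.down) r a⟩
  have hsmul : ∀ (σ : SG.{u} n) a, σ • a = ((permHom f n σ.down⁻¹).appLE O O (hst σ.down)).hom a :=
    fun _ _ => rfl
  obtain ⟨hinj, hfix⟩ := chart_fix hq hpre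
  haveI : SMulCommClass (SG.{u} n) Γ(Y, W') Γ(fibPow f n, O) := ⟨fun σ b a => by
    rw [Algebra.smul_def, Algebra.smul_def, smul_mul']
    congr 1
    exact (hfix _).1 ⟨b, rfl⟩ σ.down⁻¹⟩
  haveI : Algebra.IsInvariant Γ(Y, W') Γ(fibPow f n, O) (SG.{u} n) := ⟨fun a ha => (hfix a).2 fun σ => by
    have := ha ⟨σ⁻¹⟩
    rw [hsmul] at this
    simpa using this⟩
  haveI : Algebra.FiniteType Γ(S, V) Γ(fibPow f n, O) :=
    HasRingHomProperty.appLE @LocallyOfFiniteType _ inferInstance ⟨V, hV⟩ ⟨O, hO⟩ box_le_base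
  haveI : Algebra.FiniteType Γ(S, V) Γ(Y, W') :=
    HasRingHomProperty.appLE @LocallyOfFiniteType g inferInstance ⟨V, hV⟩ ⟨W', hW⟩ hWV
  obtain ⟨e, he⟩ := exists_sections_equiv (f := f) (d := n) hU hV hUV
  let s : Fin n → Γ(X, U) →ₐ[Γ(S, V)] Γ(fibPow f n, O) := fun i =>
    e.toAlgHom.comp (PiTensorProduct.singleAlgHom (R := Γ(S, V)) (A := fun _ : Fin n => Γ(X, U)) i)
  have hs : IsPow s := by
    refine ⟨fun F F' h => ?_, fun ψ => ?_⟩
    · have h2 : F.comp e.toAlgHom = F'.comp e.toAlgHom := PiTensorProduct.algHom_ext fun i => h i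
      exact AlgHom.ext fun a => by
        obtain ⟨b, rfl⟩ := e.surjective a
        exact AlgHom.congr_fun h2 b
    · let L := PiTensorProduct.liftAlgHom ((MultilinearMap.mkPiAlgebra Γ(S, V) (Fin n) _).compLinearMap
        fun i => (ψ i).toLinearMap) (by simp) (fun x y => by simp [Finset.prod_mul_distrib])
      refine ⟨L.comp e.symm.toAlgHom, fun i => AlgHom.ext fun b => ?_⟩
      change L (e.symm (e (PiTensorProduct.singleAlgHom (R := Γ(S, V)) i b))) = ψ i b
      rw [e.symm_apply_apply]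
      simp only [L, PiTensorProduct.singleAlgHom_apply, PiTensorProduct.liftAlgHom_apply,
        PiTensorProduct.lift.tprod, MultilinearMap.compLinearMap_apply, MultilinearMap.mkPiAlgebra_apply]
      refine (Finset.prod_eq_single i (fun j _ hj => ?_) fun h => (h (Finset.mem_univ i)).elim).trans ?_
      · simp [hj]
      · simp
  have hact : ∀ (σ : SG.{u} n) i b, σ • s i b = s (σ.down i) b := fun σ i b => by
    have h := he σ.down⁻¹ (PiTensorProduct.singleAlgHom (R := Γ(S, V)) (A := fun _ : Fin n => Γ(X, U)) i b)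
    refine Eq.trans ?_ (h.symm.trans ?_)
    · rfl
    · change _ = e (PiTensorProduct.singleAlgHom (R := Γ(S, V)) (A := fun _ : Fin n => Γ(X, U)) (σ.down i) b)
      congr 1
      rw [PiTensorProduct.singleAlgHom_apply, PiTensorProduct.singleAlgHom_apply, PiTensorProduct.reindex_tprod]
      congr 1
      funext j
      simp only [MonoidHom.mulSingle_apply, Equiv.Perm.inv_def, Equiv.symm_symm]
      rw [Pi.mulSingle_apply, Pi.mulSingle_apply]
      exact if_congr ⟨fun h => by simp [← h], fun h => by simp [h]⟩ rfl rfl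
  let x := hO.primeIdealOf ⟨z, hz⟩
  haveI : Infinite (Γ(S, V) ⧸ x.asIdeal.comap (algebraMap Γ(S, V) Γ(fibPow f n, O))) := by
    let b := (WidePullback.base fun _ : Fin n => f) z
    have hb : b ∈ V := box_le_base hz
    have hker : x.asIdeal.comap (algebraMap Γ(S, V) Γ(fibPow f n, O)) = (hV.primeIdealOf ⟨b, hb⟩).asIdeal := by
      ext r
      rw [Ideal.mem_comap]
      refine (QuotScheme.mem_prime_iff_evaluation hO ⟨z, hz⟩ _).trans ?_
      refine Iff.trans ?_ (QuotScheme.mem_prime_iff_evaluation hV ⟨b, hb⟩ r).symm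
      rw [show algebraMap Γ(S, V) Γ(fibPow f n, O) r =
        ((WidePullback.base fun _ : Fin n => f).appLE V O box_le_base).hom r from rfl]
      rw [← QuotScheme.evaluation_appLE (WidePullback.base fun _ : Fin n => f) box_le_base z hz r]
      exact map_eq_zero _
    rw [hker]
    by_contra hfin
    rw [not_infinite_iff_finite] at hfin
    let ev : Γ(S, V) ⧸ (hV.primeIdealOf ⟨b, hb⟩).asIdeal → S.residueField b :=
      Ideal.Quotient.lift _ (S.evaluation V b hb).hom fun r hr =>
        (QuotScheme.mem_prime_iff_evaluation hV ⟨b, hb⟩ r).1 hr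
    have : Finite (S.residueField b) := Finite.of_surjective (fun p : _ × _ => ev p.1 / ev p.2) fun w => by
      obtain ⟨a, c, h⟩ := QuotScheme.exists_evaluation_div hV ⟨b, hb⟩ w
      exact ⟨(Ideal.Quotient.mk _ a, Ideal.Quotient.mk _ c), h.symm⟩
    exact not_finite (S.residueField b)
  obtain ⟨t, ht⟩ := exists_good s (isCurveAlg_appLE hU hV hUV) x.asIdeal
  have hchart := ht.isSepChart s hact hs (isCurveAlg_appLE hU hV hUV)
  have hτ : ∀ (σ : SG.{u} n) i, σ • s i t = s (σ.down i) t := fun σ i => hact σ i t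
  have hfl := flat_at (A₀ := Γ(Y, W')) (fun i => s i t) hinj hτ x.asIdeal hchart
  refine ⟨(FibreFlat.flatAt_iff_appLE q hW hO hpre.ge ⟨z, hz⟩).2 hfl, ?_⟩
  intro _ _
  haveI : Module.Flat Γ(Y, W') Γ(fibPow f n, O) :=
    RingHom.flat_algebraMap_iff.1 (HasRingHomProperty.appLE @Flat q inferInstance ⟨W', hW⟩ ⟨O, hO⟩ hpre.ge)
  haveI : Module.Finite Γ(Y, W') Γ(fibPow f n, O) := by
    haveI : Algebra.IsIntegral Γ(Y, W') Γ(fibPow f n, O) := Algebra.IsInvariant.isIntegral _ _ (SG.{u} n)
    haveI : Algebra.FiniteType Γ(Y, W') Γ(fibPow f n, O) :=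
      Algebra.FiniteType.of_restrictScalars_finiteType Γ(S, V) _ _
    exact Algebra.IsIntegral.finite
  have hr := rank_at (R := Γ(S, V)) (A₀ := Γ(Y, W')) (fun i => s i t) hinj hτ x.asIdeal hchart
  have h : IsPullback (Spec.map (q.appLE W' O hpre.ge)) hO.fromSpec hW.fromSpec q :=
    IsOpenImmersion.isPullback _ _ _ _ (IsAffineOpen.SpecMap_appLE_fromSpec q hW hO hpre.ge).symm (by
      rw [hW.opensRange_fromSpec, hO.opensRange_fromSpec, hpre])
  have h2 := Scheme.Hom.finrank_of_isPullback _ _ _ _ h.flip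
    ((Spec.map (q.appLE W' O hpre.ge)) x)
  have hx : hW.fromSpec ((Spec.map (q.appLE W' O hpre.ge)) x) = q z := by
    rw [← Scheme.Hom.comp_apply, IsAffineOpen.SpecMap_appLE_fromSpec q hW hO hpre.ge, Scheme.Hom.comp_apply,
      hO.fromSpec_primeIdealOf]
  rw [hx] at h2
  rw [← h2, ← hr]
  exact Scheme.Hom.finrank_SpecMap_algebraMap Γ(Y, W') Γ(fibPow f n, O) _

end Groth.Agent.SymCurve
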