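import Groth.Agent.SymCurve.Dual
import Groth.Agent.SymCurve.Chart
import Groth.Agent.SymCurve.Main
import Groth.Agent.GrpAct.DimClosed
import Groth.Agent.PicSmooth.Valuative

/-!
# The singular locus of symmetric powers in dimension at least two
-/

set_option autoImplicit false
set_option linter.style.haveILetI false
set_option maxHeartbeats 2000000

universe u

open CategoryTheory CategoryTheory.Limits AlgebraicGeometry SymProd
open Groth.Agent.SymProdLib

namespace Groth.Agent.SymCurve

variable {X S : Scheme.{u}} {f : X ⟶ S} {n : ℕ} {U : X.Opens} {V : S.Opens}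

/-- The projection of a box on sections. -/
noncomputable def boxProj (hUV : U ≤ f ⁻¹ᵁ V) (i : Fin n) :
    letI := (f.appLE V U hUV).hom.toAlgebra
    letI := bAlg (f := f) (d := n) (V := V) (O := box f n U V) box_le_base
    Γ(X, U) →ₐ[Γ(S, V)] Γ(fibPow f n, box f n U V) :=
  letI := (f.appLE V U hUV).hom.toAlgebra
  letI := bAlg (f := f) (d := n) (V := V) (O := box f n U V) box_le_base
  { ((WidePullback.π (fun _ : Fin n => f) i).appLE U (box f n U V) (box_le_π i)).hom with
    commutes' := fun r => by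
      change ((WidePullback.π (fun _ : Fin n => f) i).appLE U _ _).hom ((f.appLE V U hUV).hom r) = _
      rw [← CommRingCat.comp_apply, Scheme.Hom.appLE_comp_appLE,
        Groth.Agent.QuotScheme.appLE_congr_hom (WidePullback.π_arrow (fun _ : Fin n => f) i) V _ _ box_le_base]
      rfl }

set_option backward.isDefEq.respectTransparency false in
/-- The sections of a box are the tensor power, by the universal property. -/
theorem isPow_boxProj (hU : IsAffineOpen U) (hV : IsAffineOpen V) (hUV : U ≤ f ⁻¹ᵁ V) :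
    letI := (f.appLE V U hUV).hom.toAlgebra
    letI := bAlg (f := f) (d := n) (V := V) (O := box f n U V) box_le_base
    IsPow (boxProj (f := f) (n := n) hUV) := by
  letI := (f.appLE V U hUV).hom.toAlgebra
  letI := bAlg (f := f) (d := n) (V := V) (O := box f n U V) box_le_base
  have hB := isAffineOpen_box (d := n) hU hV hUV
  have hπ : ∀ (i : Fin n) {C : CommRingCat.{u}} (φ : Γ(fibPow f n, box f n U V) ⟶ C),
      (Spec.map φ ≫ hB.fromSpec) ≫ WidePullback.π (fun _ : Fin n => f) i =
        Spec.map ((WidePullback.π (fun _ : Fin n => f) i).appLE U _ (box_le_π i) ≫ φ) ≫ hU.fromSpec := by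
    intro i C φ
    rw [Spec.map_comp, Category.assoc, Category.assoc,
      IsAffineOpen.SpecMap_appLE_fromSpec (WidePullback.π (fun _ : Fin n => f) i) hU hB (box_le_π i)]
  have hbase : ∀ {C : CommRingCat.{u}} (φ : Γ(fibPow f n, box f n U V) ⟶ C),
      (Spec.map φ ≫ hB.fromSpec) ≫ WidePullback.base (fun _ : Fin n => f) =
        Spec.map ((WidePullback.base (fun _ : Fin n => f)).appLE V _ box_le_base ≫ φ) ≫ hV.fromSpec := by
    intro C φ
    rw [Spec.map_comp, Category.assoc, Category.assoc,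
      IsAffineOpen.SpecMap_appLE_fromSpec (WidePullback.base (fun _ : Fin n => f)) hV hB box_le_base]
  refine ⟨?_, ?_⟩
  · intro C _ _ F F' h
    let φ : Γ(fibPow f n, box f n U V) ⟶ CommRingCat.of C := CommRingCat.ofHom F.toRingHom
    let φ' : Γ(fibPow f n, box f n U V) ⟶ CommRingCat.of C := CommRingCat.ofHom F'.toRingHom
    have h2 : Spec.map φ ≫ hB.fromSpec = Spec.map φ' ≫ hB.fromSpec := by
      apply WidePullback.hom_ext
      · intro i
        rw [hπ i, hπ i]
        congr 2
        ext b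
        exact AlgHom.congr_fun (h i) b
      · rw [hbase, hbase]
        congr 2
        ext r
        exact (F.commutes r).trans (F'.commutes r).symm
    rw [cancel_mono] at h2
    have h3 : φ = φ' := Spec.map_injective h2
    exact AlgHom.coe_ringHom_injective (congrArg CommRingCat.Hom.hom h3)
  · intro C _ _ ψ
    let str : Γ(S, V) ⟶ CommRingCat.of C := CommRingCat.ofHom (algebraMap Γ(S, V) C)
    let g' : Spec (CommRingCat.of C) ⟶ fibPow f n := WidePullback.lift (Spec.map str ≫ hV.fromSpec)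
      (fun i => Spec.map (CommRingCat.ofHom (ψ i).toRingHom) ≫ hU.fromSpec) fun i => by
        rw [Category.assoc, ← IsAffineOpen.SpecMap_appLE_fromSpec f hV hU hUV, ← Spec.map_comp_assoc]
        congr 2
        ext r
        exact (ψ i).commutes r
    have hrg : Set.range g' ⊆ Set.range (box f n U V).ι := by
      rw [Scheme.Opens.range_ι]
      rintro _ ⟨t, rfl⟩
      refine (mem_box _).2 ⟨?_, fun i => ?_⟩
      · rw [← Scheme.Hom.comp_apply, WidePullback.lift_base, Scheme.Hom.comp_apply]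
        exact hV.range_fromSpec.le ⟨_, rfl⟩
      · rw [← Scheme.Hom.comp_apply, WidePullback.lift_π, Scheme.Hom.comp_apply]
        exact hU.range_fromSpec.le ⟨_, rfl⟩
    let φ : Γ(fibPow f n, box f n U V) ⟶ CommRingCat.of C :=
      Spec.preimage (IsOpenImmersion.lift (box f n U V).ι g' hrg ≫ hB.isoSpec.hom)
    have hφ : Spec.map φ ≫ hB.fromSpec = g' := by
      rw [Spec.map_preimage, Category.assoc, hB.isoSpec_hom_fromSpec, IsOpenImmersion.lift_fac]
    have hbase' : (WidePullback.base (fun _ : Fin n => f)).appLE V _ box_le_base ≫ φ = str := by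
      apply Spec.map_injective
      rw [← cancel_mono hV.fromSpec, ← hbase, hφ, WidePullback.lift_base]
    have hπ' : ∀ i, (WidePullback.π (fun _ : Fin n => f) i).appLE U _ (box_le_π i) ≫ φ =
        CommRingCat.ofHom (ψ i).toRingHom := fun i => by
      apply Spec.map_injective
      rw [← cancel_mono hU.fromSpec, ← hπ i, hφ, WidePullback.lift_π]
    refine ⟨{ φ.hom with commutes' := fun r => ?_ }, fun i => ?_⟩
    · exact congr($(hbase') r)
    · exact AlgHom.ext fun b => congr($(hπ' i) b)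

set_option backward.isDefEq.respectTransparency false in
/-- The singular locus of a symmetric power of a smooth variety of dimension at least two. -/
theorem regular_iff (k : Type u) [Field k] [IsAlgClosed k]
    {X : Scheme.{u}} (f : X ⟶ Spec (CommRingCat.of k)) [Smooth f] [IrreducibleSpace X]
    (d : ℕ) (hd : 2 ≤ d) (hdim : topologicalKrullDim X = d) (hAF : IsAF f)
    {n : ℕ} {Y : Scheme.{u}} {q : fibPow f n ⟶ Y} {g : Y ⟶ Spec (CommRingCat.of k)}
    (hY : IsSymProd f n q g) (z : fibPow f n) (hz : IsClosed ({z} : Set (fibPow f n))) :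
    IsRegularLocalRing (Y.presheaf.stalk (q z)) ↔
      Function.Injective (fun i : Fin n => (WidePullback.π (fun _ : Fin n => f) i) z) := by
  classical
  let S := Spec (CommRingCat.of k)
  have hV : IsAffineOpen (⊤ : S.Opens) := isAffineOpen_top _
  let eR : k ≃+* Γ(S, (⊤ : S.Opens)) := (Scheme.ΓSpecIso (CommRingCat.of k)).symm.commRingCatIsoToRingEquiv
  have hF : IsField Γ(S, (⊤ : S.Opens)) := MulEquiv.isField (Field.toIsField k) eR.symm.toMulEquiv
  letI : Field Γ(S, (⊤ : S.Opens)) := hF.toField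
  haveI : IsAlgClosed Γ(S, (⊤ : S.Opens)) := IsAlgClosed.of_ringEquiv k _ eR
  haveI : Smooth (WidePullback.base fun _ : Fin n => f) :=
    prop_fibPow_base @Smooth (fun φ _ => inferInstance) f inferInstance n
  haveI := QuotScheme.locallyOfFiniteType_of_isQuot hY.isQuot hY.over
  obtain ⟨U, W', hU, hUV, hyW, hW, hWV, hpre⟩ := exists_chart hAF hY (q z) hV trivial
  have hzO : z ∈ box f n U (⊤ : S.Opens) := hpre.le hyW
  let O := box f n U (⊤ : S.Opens)
  have hO : IsAffineOpen O := isAffineOpen_box hU hV hUV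
  have hst : ∀ σ : Equiv.Perm (Fin n), O ≤ (permHom f n σ⁻¹) ⁻¹ᵁ O := fun σ => box_le_perm σ⁻¹
  letI algU := (f.appLE (⊤ : S.Opens) U hUV).hom.toAlgebra
  letI algA : Algebra Γ(S, (⊤ : S.Opens)) Γ(fibPow f n, O) := bAlg box_le_base
  letI algA₀ := (g.appLE (⊤ : S.Opens) W' hWV).hom.toAlgebra
  letI algq : Algebra Γ(Y, W') Γ(fibPow f n, O) := (q.appLE W' O hpre.ge).hom.toAlgebra
  haveI : IsScalarTower Γ(S, (⊤ : S.Opens)) Γ(Y, W') Γ(fibPow f n, O) := IsScalarTower.of_algebraMap_eq fun r => by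
    change _ = (q.appLE W' O _).hom ((g.appLE (⊤ : S.Opens) W' hWV).hom r)
    rw [← CommRingCat.comp_apply, Scheme.Hom.appLE_comp_appLE,
      Groth.Agent.QuotScheme.appLE_congr_hom hY.over (⊤ : S.Opens) _ _ box_le_base]
    rfl
  let ac := actHom (V := (⊤ : S.Opens)) box_le_base hst
  letI act : MulSemiringAction (SG.{u} n) Γ(fibPow f n, O) :=
    { smul := fun σ a => ac σ.down a
      one_smul := fun a => AlgHom.congr_fun (map_one ac) a
      mul_smul := fun σ τ a => AlgHom.congr_fun (map_mul ac σ.down τ.down) a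
      smul_zero := fun σ => map_zero (ac σ.down)
      smul_add := fun σ => map_add (ac σ.down)
      smul_one := fun σ => map_one (ac σ.down)
      smul_mul := fun σ => map_mul (ac σ.down) }
  haveI : SMulCommClass (SG.{u} n) Γ(S, (⊤ : S.Opens)) Γ(fibPow f n, O) :=
    ⟨fun σ r a => map_smul (ac σ.down) r a⟩
  have hsmul : ∀ (σ : SG.{u} n) a, σ • a = ((permHom f n σ.down⁻¹).appLE O O (hst σ.down)).hom a :=
    fun _ _ => rfl
  obtain ⟨hinj, hfix⟩ := chart_fix hY hpre
  haveI : SMulCommClass (SG.{u} n) Γ(Y, W') Γ(fibPow f n, O) := ⟨fun σ b a => by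
    rw [Algebra.smul_def, Algebra.smul_def, smul_mul']
    congr 1
    exact (hfix _).1 ⟨b, rfl⟩ σ.down⁻¹⟩
  haveI : Algebra.IsInvariant Γ(Y, W') Γ(fibPow f n, O) (SG.{u} n) := ⟨fun a ha => (hfix a).2 fun σ => by
    have := ha ⟨σ⁻¹⟩
    rw [hsmul] at this
    simpa using this⟩
  haveI : Algebra.FiniteType Γ(S, (⊤ : S.Opens)) Γ(fibPow f n, O) :=
    HasRingHomProperty.appLE @LocallyOfFiniteType _ inferInstance ⟨(⊤ : S.Opens), hV⟩ ⟨O, hO⟩ box_le_base
  haveI : Algebra.FiniteType Γ(S, (⊤ : S.Opens)) Γ(Y, W') :=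
    HasRingHomProperty.appLE @LocallyOfFiniteType g inferInstance ⟨(⊤ : S.Opens), hV⟩ ⟨W', hW⟩ hWV
  haveI : Algebra.FiniteType Γ(S, (⊤ : S.Opens)) Γ(X, U) :=
    HasRingHomProperty.appLE @LocallyOfFiniteType f inferInstance ⟨(⊤ : S.Opens), hV⟩ ⟨U, hU⟩ hUV
  haveI : Algebra.FiniteType Γ(Y, W') Γ(fibPow f n, O) :=
    Algebra.FiniteType.of_restrictScalars_finiteType Γ(S, (⊤ : S.Opens)) _ _
  haveI : IsNoetherianRing Γ(fibPow f n, O) := Algebra.FiniteType.isNoetherianRing Γ(S, (⊤ : S.Opens)) _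
  haveI : IsNoetherianRing Γ(Y, W') := Algebra.FiniteType.isNoetherianRing Γ(S, (⊤ : S.Opens)) _
  haveI : IsNoetherianRing Γ(X, U) := Algebra.FiniteType.isNoetherianRing Γ(S, (⊤ : S.Opens)) _
  have hs := isPow_boxProj (n := n) hU hV hUV
  let s : Fin n → Γ(X, U) →ₐ[Γ(S, (⊤ : S.Opens))] Γ(fibPow f n, O) := boxProj hUV
  have hact : ∀ (σ : SG.{u} n) i b, σ • s i b = s (σ.down i) b := fun σ i b => by
    change ((permHom f n σ.down⁻¹).appLE O O _).hom
      (((WidePullback.π (fun _ : Fin n => f) i).appLE U O (box_le_π i)).hom b) =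
      ((WidePullback.π (fun _ : Fin n => f) (σ.down i)).appLE U O (box_le_π _)).hom b
    rw [← CommRingCat.comp_apply, Scheme.Hom.appLE_comp_appLE,
      Groth.Agent.QuotScheme.appLE_congr_hom (permHom_π f n σ.down⁻¹ i) U _ _ (box_le_π _)]
    rfl
  let x := hO.primeIdealOf ⟨z, hzO⟩
  haveI hxmax : x.asIdeal.IsMaximal := by
    rw [← PrimeSpectrum.isClosed_singleton_iff_isMaximal]
    have h := hz.preimage hO.fromSpec.continuous
    have h2 : hO.fromSpec ⁻¹' {z} = {x} := by
      ext w
      simp only [Set.mem_preimage, Set.mem_singleton_iff]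
      refine ⟨fun hw => hO.fromSpec.isOpenEmbedding.injective (hw.trans (hO.fromSpec_primeIdealOf ⟨z, hzO⟩).symm),
        fun hw => hw ▸ hO.fromSpec_primeIdealOf ⟨z, hzO⟩⟩
    rwa [h2] at h
  -- the rational point
  haveI : Module.Finite Γ(S, (⊤ : S.Opens)) (Γ(fibPow f n, O) ⧸ x.asIdeal) := by
    letI : Field (Γ(fibPow f n, O) ⧸ x.asIdeal) := Ideal.Quotient.field x.asIdeal
    haveI : Algebra.FiniteType Γ(S, (⊤ : S.Opens)) (Γ(fibPow f n, O) ⧸ x.asIdeal) :=
      Algebra.FiniteType.of_surjective (Ideal.Quotient.mkₐ _ _) Ideal.Quotient.mk_surjective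
    exact finite_of_finite_type_of_isJacobsonRing Γ(S, (⊤ : S.Opens)) _
  have hbij : Function.Bijective (algebraMap Γ(S, (⊤ : S.Opens)) (Γ(fibPow f n, O) ⧸ x.asIdeal)) :=
    IsAlgClosed.algebraMap_bijective_of_isIntegral
  let pt : Γ(fibPow f n, O) →ₐ[Γ(S, (⊤ : S.Opens))] Γ(S, (⊤ : S.Opens)) :=
    (AlgEquiv.ofBijective (Algebra.ofId _ _) hbij).symm.toAlgHom.comp (Ideal.Quotient.mkₐ _ x.asIdeal)
  have hx : ∀ a, a ∈ x.asIdeal ↔ pt a = 0 := fun a => by
    rw [← Ideal.Quotient.eq_zero_iff_mem]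
    exact (map_eq_zero_iff _ (AlgEquiv.ofBijective (Algebra.ofId _ _) hbij).symm.injective).symm
  -- the local rings
  have hreg : ∀ {Z : Scheme.{u}} (h : Z ⟶ S) [Smooth h] (w : Z),
      IsRegularLocalRing (Z.presheaf.stalk w) := fun h _ w =>
    PicSmooth.isRegularLocalRing_stalk_of_smooth inferInstance h w
  haveI : IsRegularLocalRing (Localization.AtPrime x.asIdeal) := by
    haveI := hreg (WidePullback.base fun _ : Fin n => f) z
    letI := (fibPow f n).presheaf.algebra_section_stalk (⟨z, hzO⟩ : O)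
    haveI := hO.isLocalization_stalk ⟨z, hzO⟩
    exact IsRegularLocalRing.of_ringEquiv (IsLocalization.algEquiv x.asIdeal.primeCompl
      ((fibPow f n).presheaf.stalk z) (Localization.AtPrime x.asIdeal)).toRingEquiv
  haveI : JacobsonSpace X := LocallyOfFiniteType.jacobsonSpace f
  have hB : ∀ Q : Ideal Γ(X, U), Q.IsMaximal → ∃ _ : Q.IsPrime, IsRegularLocalRing (Localization.AtPrime Q) ∧
      (2 : WithBot ℕ∞) ≤ ringKrullDim (Localization.AtPrime Q) := by
    intro Q hQ
    refine ⟨inferInstance, ?_⟩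
    let w : X := hU.fromSpec ⟨Q, inferInstance⟩
    have hwU : w ∈ U := hU.range_fromSpec.le ⟨_, rfl⟩
    have hw : IsClosed ({w} : Set X) := by
      haveI : JacobsonSpace (Spec Γ(X, U)) := LocallyOfFiniteType.jacobsonSpace hU.fromSpec
      exact hU.fromSpec.closePoints_subset_preimage_closedPoints
        ((PrimeSpectrum.isClosed_singleton_iff_isMaximal ⟨Q, inferInstance⟩).2 hQ :
          (⟨Q, inferInstance⟩ : PrimeSpectrum Γ(X, U)) ∈ closedPoints (Spec Γ(X, U)))
    have hpr : hU.primeIdealOf ⟨w, hwU⟩ = ⟨Q, inferInstance⟩ :=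
      hU.fromSpec.isOpenEmbedding.injective (hU.fromSpec_primeIdealOf ⟨w, hwU⟩)
    letI := X.presheaf.algebra_section_stalk (⟨w, hwU⟩ : U)
    haveI := hU.isLocalization_stalk ⟨w, hwU⟩
    haveI : IsLocalization.AtPrime (X.presheaf.stalk w) Q := by
      have h := hU.isLocalization_stalk ⟨w, hwU⟩
      simp only [hpr] at h
      exact h
    haveI := hreg f w
    let e := (IsLocalization.algEquiv Q.primeCompl (X.presheaf.stalk w) (Localization.AtPrime Q)).toRingEquiv
    refine ⟨IsRegularLocalRing.of_ringEquiv e, ?_⟩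
    rw [← ringKrullDim_eq_of_ringEquiv e, GrpAct.dim_stalk_closed_eq f w hw, hdim]
    exact_mod_cast hd
  have key := regular_iff_injective (A₀ := Γ(Y, W')) hinj s hs hact pt x.asIdeal hx hB
  have hy : (x.asIdeal.comap (algebraMap Γ(Y, W') Γ(fibPow f n, O))) = (hW.primeIdealOf ⟨q z, hyW⟩).asIdeal := by
    exact congrArg PrimeSpectrum.asIdeal (IsAffineOpen.comap_primeIdealOf_appLE W' hW O hO hpre.ge hzO)
  have hstalk : IsRegularLocalRing (Y.presheaf.stalk (q z)) ↔
      IsRegularLocalRing (Localization.AtPrime (x.asIdeal.comap (algebraMap Γ(Y, W') Γ(fibPow f n, O)))) := by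
    letI := Y.presheaf.algebra_section_stalk (⟨q z, hyW⟩ : W')
    haveI : IsLocalization.AtPrime (Y.presheaf.stalk (q z))
        (x.asIdeal.comap (algebraMap Γ(Y, W') Γ(fibPow f n, O))) := by
      have h := hW.isLocalization_stalk ⟨q z, hyW⟩
      simp only [← hy] at h
      exact h
    let e := (IsLocalization.algEquiv (x.asIdeal.comap (algebraMap Γ(Y, W') Γ(fibPow f n, O))).primeCompl
      (Y.presheaf.stalk (q z))
      (Localization.AtPrime (x.asIdeal.comap (algebraMap Γ(Y, W') Γ(fibPow f n, O))))).toRingEquiv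
    exact ⟨fun h => IsRegularLocalRing.of_ringEquiv e, fun h => IsRegularLocalRing.of_ringEquiv e.symm⟩
  rw [hstalk, key]
  have hker : ∀ i b, pt (s i b) = 0 ↔ b ∈ (hU.primeIdealOf ⟨_, box_le_π i hzO⟩).asIdeal := fun i b => by
    rw [← hx, ← IsAffineOpen.comap_primeIdealOf_appLE U hU O hO (box_le_π i) hzO]
    rfl
  refine ⟨fun h i j hij => h (AlgHom.ext fun b => ?_), fun h i j hij => h ?_⟩
  · have h1 : pt (s i (b - algebraMap _ _ (pt (s i b)))) = 0 := by
      rw [map_sub, AlgHom.commutes, map_sub, AlgHom.commutes, Algebra.algebraMap_self, RingHom.id_apply, sub_self]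
    rw [hker] at h1
    have h2 : pt (s j (b - algebraMap _ _ (pt (s i b)))) = 0 := by
      rw [hker]
      have h4 : (⟨_, box_le_π j hzO⟩ : U) = ⟨_, box_le_π i hzO⟩ := Subtype.ext hij.symm
      rw [h4]
      exact h1
    rw [map_sub, AlgHom.commutes, map_sub, AlgHom.commutes, Algebra.algebraMap_self, RingHom.id_apply, sub_eq_zero] at h2
    exact h2.symm
  · have h3 : hU.primeIdealOf ⟨_, box_le_π i hzO⟩ = hU.primeIdealOf ⟨_, box_le_π j hzO⟩ :=
      PrimeSpectrum.ext (Ideal.ext fun b => by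
        rw [← hker, ← hker]
        exact Iff.of_eq (congrArg (· = 0) (AlgHom.congr_fun hij b)))
    exact congrArg Subtype.val (QuotScheme.primeIdealOf_injective hU h3)

end Groth.Agent.SymCurve
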