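import Groth.Agent.QuotScheme.FreeAlg
import Mathlib.LinearAlgebra.Dimension.Constructions
import Mathlib.RingTheory.TensorProduct.Free

/-!
# The rank of a free quotient
-/

set_option autoImplicit false
set_option backward.isDefEq.respectTransparency false
set_option linter.style.haveILetI false

universe u

open scoped TensorProduct

namespace Groth.Agent.SymCurve

variable {G A B : Type u} [Group G] [Finite G] [CommRing A] [CommRing B] [MulSemiringAction G A] [Algebra B A]
  [SMulCommClass G B A] [Algebra.IsInvariant B A G]

open QuotScheme in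
/-- A free action: the rank over the invariants is the order of the group. -/
theorem finrank_of_free [Nontrivial A] [Module.Free B A] [Module.Finite B A]
    (hfree : ∀ g : G, g ≠ 1 → Ideal.span (Set.range fun a : A => g • a - a) = ⊤) :
    Module.finrank B A = Nat.card G := by
  classical
  cases nonempty_fintype G
  haveI : Nontrivial B := (algebraMap B A).domain_nontrivial
  obtain ⟨n, x, y, h1, h2⟩ := exists_free_family hfree
  have hδ : ∀ l k : G, ∑ i, (l • x i) * (k • y i) = if l = k then 1 else 0 := fun l k => by
    rw [show ∑ i, (l • x i) * (k • y i) = l • ∑ i, x i * ((l⁻¹ * k) • y i) by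
      simp [Finset.smul_sum, smul_mul', smul_smul]]
    split_ifs with h
    · subst h; simp [h1]
    · rw [h2 _ (by rwa [ne_eq, inv_mul_eq_one]), smul_zero]
  let Φ : A ⊗[B] A →ₐ[A] (G → A) := Algebra.TensorProduct.lift (Algebra.ofId A (G → A))
    (AlgHom.pi fun g => MulSemiringAction.toAlgHom B A g) fun _ _ => Commute.all _ _
  have hΦ : ∀ a b g, Φ (a ⊗ₜ b) g = a * (g • b) := fun a b g => rfl
  have hleft : ∀ z, ∑ g : G, ∑ i, (Φ z g * (g • x i)) ⊗ₜ[B] y i = z := by
    intro z
    induction z with
    | zero => simp
    | add z w hz hw =>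
      simp only [map_add, Pi.add_apply, add_mul, TensorProduct.add_tmul, Finset.sum_add_distrib, hz, hw]
    | tmul a b =>
      have hinv : ∀ i, ∃ r : B, algebraMap B A r = ∑ g : G, g • (b * x i) := fun i =>
        Algebra.IsInvariant.isInvariant (A := B) (G := G) _ fun h => by
          rw [Finset.smul_sum]
          exact Fintype.sum_equiv (Equiv.mulLeft h) _ _ fun g => by simp [smul_smul]
      choose r hr using hinv
      have hb : ∑ i, r i • y i = b := by
        simp only [Algebra.smul_def, hr, Finset.sum_mul, smul_mul']
        rw [Finset.sum_comm]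
        calc ∑ g : G, ∑ i, (g • b) * (g • x i) * y i
            = ∑ g : G, (g • b) * ∑ i, (g • x i) * ((1 : G) • y i) := by
              simp only [Finset.mul_sum, one_smul, mul_assoc]
          _ = ∑ g : G, (g • b) * if g = 1 then 1 else 0 :=
              Finset.sum_congr rfl fun g _ => by rw [hδ g 1]
          _ = b := by simp
      conv_rhs => rw [← hb, TensorProduct.tmul_sum]
      rw [Finset.sum_comm]
      refine Finset.sum_congr rfl fun i _ => ?_
      rw [TensorProduct.tmul_smul, TensorProduct.smul_tmul', Algebra.smul_def, hr, Finset.sum_mul,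
        TensorProduct.sum_tmul]
      exact Finset.sum_congr rfl fun g _ => by rw [hΦ, smul_mul']; congr 1; ring
  have hinj : Function.Injective Φ := fun z w h => by rw [← hleft z, ← hleft w, h]
  have hsurj : Function.Surjective Φ := fun φ => by
    refine ⟨∑ g : G, ∑ i, (φ g * (g • x i)) ⊗ₜ[B] y i, funext fun k => ?_⟩
    simp only [map_sum, Finset.sum_apply, hΦ, mul_assoc]
    simp only [← Finset.mul_sum, hδ]
    simp
  have h := (LinearEquiv.ofBijective Φ.toLinearMap ⟨hinj, hsurj⟩).finrank_eq
  rw [Module.finrank_baseChange, Module.finrank_pi] at h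
  rw [h, Nat.card_eq_fintype_card]

end Groth.Agent.SymCurve
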