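import Groth.Agent.SymCurve.Poly
import Groth.Agent.SymCurve.Torsor
import Groth.Agent.InvEtale.FixedPts
import Groth.Agent.UnramLib.FlatUnram
import Groth.Agent.EtaleCrit.Params
import Groth.Agent.InvQuotSp.Base

/-!
# Flatness and rank over the symmetric invariants near an etale coordinate system
-/

set_option autoImplicit false
set_option linter.style.haveILetI false
set_option maxHeartbeats 1000000

universe u

open MvPolynomial
open scoped TensorProduct Groth.Agent.InvQuotSp

namespace Groth.Agent.SymCurve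

variable {R A A₀ : Type u} [CommRing R] [IsNoetherianRing R] [CommRing A] [Algebra R A]
  [CommRing A₀] [Algebra R A₀] [Algebra A₀ A] [IsScalarTower R A₀ A]
  [Algebra.FiniteType R A] [Algebra.FiniteType R A₀]
  {n : ℕ} [MulSemiringAction (SG.{u} n) A] [SMulCommClass (SG.{u} n) R A] [SMulCommClass (SG.{u} n) A₀ A]
  [Algebra.IsInvariant A₀ A (SG.{u} n)]
  (τ : Fin n → A)

/-- The coordinates are a chart at `x`: etale, and the inertia group is detected by them. -/
structure IsSepChart (x : Ideal A) [x.IsPrime] : Prop where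
  etale : letI := (MvPolynomial.aeval (R := R) τ).toRingHom.toAlgebra
    Algebra.IsEtaleAt (MvPolynomial (Fin n) R) x
  sep : ∀ g : SG.{u} n, (∀ i, τ (g.down i) - τ i ∈ x) → g ∈ x.inertia (SG.{u} n)

variable (hinj : Function.Injective (algebraMap A₀ A)) (hτ : ∀ (g : SG.{u} n) i, g • τ i = τ (g.down i))

include hτ in
omit [IsNoetherianRing R] [Algebra.FiniteType R A] [Algebra.FiniteType R A₀] [IsScalarTower R A₀ A]
  [Algebra R A₀] [Algebra.IsInvariant A₀ A (SG.{u} n)] [SMulCommClass (SG.{u} n) A₀ A] in
theorem aeval_smul (g : SG.{u} n) (p : MvPolynomial (Fin n) R) : aeval τ (g • p) = g • aeval τ p := by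
  have h : (aeval τ).comp (rename (R := R) g.down) =
      (MulSemiringAction.toAlgHom R A g).comp (aeval τ) := algHom_ext fun i => by
    simp [hτ]
  exact AlgHom.congr_fun h p

include hinj hτ in
/-- Flatness over the invariants at a chart. -/
theorem flat_at (x : Ideal A) [x.IsPrime] (h : IsSepChart (R := R) τ x) :
    Module.Flat A₀ (Localization.AtPrime x) := by
  classical
  let P := MvPolynomial (Fin n) R
  let P₀ := FixedPoints.subalgebra R P (SG.{u} n)
  letI algPA : Algebra P A := (MvPolynomial.aeval (R := R) τ).toRingHom.toAlgebra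
  haveI : IsScalarTower R P A := IsScalarTower.of_algebraMap_eq fun r => ((aeval τ).commutes r).symm
  have hGeq : ∀ (g : SG.{u} n) (p : P), algebraMap P A (g • p) = g • algebraMap P A p := aeval_smul τ hτ
  have hpre : ∀ p : P₀, ∃ a : A₀, algebraMap A₀ A a = aeval τ (p : P) := fun p =>
    Algebra.IsInvariant.isInvariant (G := SG.{u} n) _ fun g => by rw [← aeval_smul τ hτ, p.2 g]
  choose f₀ hf₀ using hpre
  let φ₀ : P₀ →+* A₀ :=
    { toFun := f₀
      map_one' := hinj (by rw [hf₀, map_one]; exact map_one _)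
      map_mul' := fun a b => hinj (by rw [map_mul, hf₀, hf₀, hf₀]; exact map_mul _ _ _)
      map_zero' := hinj (by rw [hf₀, map_zero]; exact map_zero _)
      map_add' := fun a b => hinj (by rw [map_add, hf₀, hf₀, hf₀]; exact map_add _ _ _) }
  letI algP₀A₀ : Algebra P₀ A₀ := φ₀.toAlgebra
  haveI : IsScalarTower P₀ A₀ A := IsScalarTower.of_algebraMap_eq fun p => (hf₀ p).symm
  haveI : IsScalarTower R P₀ A₀ := IsScalarTower.of_algebraMap_eq fun r => hinj (by
    show algebraMap A₀ A (algebraMap R A₀ r) = algebraMap A₀ A (f₀ (algebraMap R P₀ r))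
    rw [hf₀, ← IsScalarTower.algebraMap_apply R A₀ A]
    exact ((aeval τ).commutes r).symm)
  haveI := InvEtale.smulCommClass_fixed (R := R) (A := P) (G := SG.{u} n)
  haveI := InvEtale.isInvariant_fixed (R := R) (A := P) (G := SG.{u} n)
  haveI : Module.Finite P₀ P := InvEtale.finite_fixed (R := R) (A := P) (G := SG.{u} n)
  haveI := InvEtale.finiteType_fixed (R := R) (A := P) (G := SG.{u} n)
  haveI : IsNoetherianRing P₀ := Algebra.FiniteType.isNoetherianRing R _
  haveI : Algebra.FiniteType P A := Algebra.FiniteType.of_restrictScalars_finiteType R P A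
  haveI : Algebra.FinitePresentation P A := Algebra.FinitePresentation.of_finiteType.1 inferInstance
  haveI : Algebra.FiniteType P₀ A₀ := Algebra.FiniteType.of_restrictScalars_finiteType R P₀ A₀
  haveI : Algebra.FinitePresentation P₀ A₀ := Algebra.FinitePresentation.of_finiteType.1 inferInstance
  haveI : SMulCommClass (SG.{u} n) P₀ A := ⟨fun g b a => by
    rw [Algebra.smul_def, Algebra.smul_def, smul_mul']
    congr 1
    show g • algebraMap P A (b : P) = algebraMap P A (b : P)
    rw [← hGeq, b.2 g]⟩
  haveI hxet : Algebra.IsEtaleAt P x := h.etale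
  have hin : x.inertia (SG.{u} n) = (x.comap (algebraMap P A)).inertia (SG.{u} n) := by
    ext g
    refine ⟨fun hg p => ?_, fun hg => h.sep g fun i => ?_⟩
    · show algebraMap P A (g • p - p) ∈ x
      rw [map_sub, hGeq]
      exact hg _
    · have h1 : algebraMap P A (g • (X i : P) - X i) ∈ x := hg (X i)
      rw [map_sub, hGeq] at h1
      change g • aeval τ (X i : P) - aeval τ (X i : P) ∈ x at h1
      rwa [aeval_X, hτ] at h1
  let y := x.comap (algebraMap A₀ A)
  haveI : Algebra.IsEtaleAt P₀ y :=
    InvEtale.isEtaleAt_invariants (SG.{u} n) hGeq Subtype.val_injective hinj x hin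
  haveI : x.LiesOver y := ⟨rfl⟩
  let Ly := Localization.AtPrime y
  let Lx := Localization.AtPrime x
  letI : Algebra Ly Lx := Localization.AtPrime.algebraOfLiesOver y x
  haveI : IsScalarTower A₀ Ly Lx := IsScalarTower.of_algebraMap_eq fun a => by
    show _ = Localization.localRingHom y x (algebraMap A₀ A) _ (algebraMap A₀ Ly a)
    rw [Localization.localRingHom_to_map, ← IsScalarTower.algebraMap_apply]
  haveI : IsScalarTower P₀ Ly Lx := IsScalarTower.of_algebraMap_eq fun p => by
    rw [IsScalarTower.algebraMap_apply P₀ A Lx, IsScalarTower.algebraMap_apply P₀ A₀ A,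
      ← IsScalarTower.algebraMap_apply A₀ A Lx, IsScalarTower.algebraMap_apply A₀ Ly Lx,
      ← IsScalarTower.algebraMap_apply P₀ A₀ Ly]
  haveI : Algebra.FormallyUnramified P₀ Ly := by
    haveI : Algebra.FormallyEtale P₀ Ly := ‹Algebra.IsEtaleAt P₀ y›
    infer_instance
  haveI : Algebra.EssFiniteType P₀ Ly := Algebra.EssFiniteType.comp P₀ A₀ Ly
  haveI : Module.Flat P Lx := EtaleCrit.flat_of_formallyEtale x hxet
  haveI : Module.Flat P₀ P := flat_fixed R n
  haveI : Module.Flat P₀ Lx := Module.Flat.trans P₀ P Lx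
  haveI : Module.Flat Ly Lx := UnramLib.flat_of_formallyUnramified P₀ Ly Lx
  exact Module.Flat.trans A₀ Ly Lx

include hinj hτ in
/-- The rank over the invariants at a chart. -/
theorem rank_at [Module.Finite A₀ A] [Module.Flat A₀ A] (x : Ideal A) [x.IsPrime]
    (h : IsSepChart (R := R) τ x) :
    Module.rankAtStalk (R := A₀) A ⟨x.comap (algebraMap A₀ A), inferInstance⟩ = n.factorial := by
  classical
  let P := MvPolynomial (Fin n) R
  letI algPA : Algebra P A := (MvPolynomial.aeval (R := R) τ).toRingHom.toAlgebra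
  haveI : IsScalarTower R P A := IsScalarTower.of_algebraMap_eq fun r => ((aeval τ).commutes r).symm
  haveI : Algebra.FiniteType P A := Algebra.FiniteType.of_restrictScalars_finiteType R P A
  let p := x.comap (algebraMap R A)
  -- the generic point of the fibre of the coordinate space
  let pP : Ideal P := RingHom.ker (MvPolynomial.map (σ := Fin n) (Ideal.Quotient.mk p))
  haveI : pP.IsPrime := RingHom.ker_isPrime _
  have hpP : pP ≤ x.comap (algebraMap P A) := by
    intro q hq
    rw [show pP = p.map (C : R →+* P) from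
      (MvPolynomial.ker_map (Ideal.Quotient.mk p)).trans (congrArg (Ideal.map C) Ideal.mk_ker)] at hq
    refine Ideal.map_le_iff_le_comap.2 (fun r hr => ?_) hq
    show aeval τ (C r : P) ∈ x
    rw [aeval_C]
    exact hr
  haveI hxet : Algebra.IsEtaleAt P x := h.etale
  haveI : Module.Flat P (Localization.AtPrime x) := EtaleCrit.flat_of_formallyEtale x hxet
  let M := IsLocalRing.maximalIdeal (Localization.AtPrime x)
  haveI : M.LiesOver (x.comap (algebraMap P A)) := ⟨by
    show _ = M.comap (algebraMap P (Localization.AtPrime x))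
    rw [IsScalarTower.algebraMap_eq P A (Localization.AtPrime x), ← Ideal.comap_comap]
    exact congrArg (Ideal.comap (algebraMap P A)) (Localization.AtPrime.under_maximalIdeal (I := x)).symm⟩
  obtain ⟨Q, hQM, hQp, hQo⟩ := Ideal.exists_ideal_le_liesOver_of_le M hpP
  let x₀ := Q.comap (algebraMap A (Localization.AtPrime x))
  have hx₀ : x₀ ≤ x := (Ideal.comap_mono hQM).trans Localization.AtPrime.under_maximalIdeal.le
  have hx₀P : x₀.comap (algebraMap P A) = pP := by
    rw [hQo.over, Ideal.under_def, IsScalarTower.algebraMap_eq P A (Localization.AtPrime x), ← Ideal.comap_comap]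
  have hsep : ∀ i j, τ i - τ j ∈ x₀ → i = j := by
    intro i j hij
    have : (X i - X j : P) ∈ pP := by
      rw [← hx₀P]
      show aeval τ (X i - X j : P) ∈ x₀
      rwa [map_sub, aeval_X, aeval_X]
    rw [RingHom.mem_ker, map_sub, MvPolynomial.map_X, MvPolynomial.map_X, sub_eq_zero] at this
    exact X_injective this
  let y₀ := x₀.comap (algebraMap A₀ A)
  rw [← Module.rankAtStalk_eq_of_le_of_finite_of_flat' (R := A₀) A (Ideal.comap_mono hx₀ : y₀ ≤ _)]
  let F := Localization.AtPrime y₀
  let A' := F ⊗[A₀] A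
  haveI : Algebra.IsInvariant F A' (SG.{u} n) := InvQuotSp.isInvariant_bc (SG.{u} n) F
  haveI : Module.Free F A' := Module.free_of_flat_of_isLocalRing
  have hinj' : Function.Injective (algebraMap F A') := by
    have := Module.Flat.lTensor_preserves_injective_linearMap (M := F) (Algebra.linearMap A₀ A) hinj
    intro a b hab
    refine (TensorProduct.rid A₀ F).symm.injective (this ?_)
    simp only [TensorProduct.rid_symm_apply, LinearMap.lTensor_tmul, Algebra.linearMap_apply, map_one]
    exact hab
  haveI : Nontrivial A' := hinj'.nontrivial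
  -- no inertia over the generic point
  have hfree : ∀ g : SG.{u} n, g ≠ 1 → Ideal.span (Set.range fun a : A' => g • a - a) = ⊤ := by
    intro g hg
    by_contra htop
    obtain ⟨m, hm, hle⟩ := Ideal.exists_le_maximal _ htop
    let x₁ := m.comap (Algebra.TensorProduct.includeRight (R := A₀) (A := F) (B := A)).toRingHom
    have hy₁ : x₁.comap (algebraMap A₀ A) ≤ y₀ := fun a ha => by
      by_contra hay
      refine hm.ne_top (Ideal.eq_top_of_isUnit_mem _ ha ?_)
      show IsUnit ((1 : F) ⊗ₜ[A₀] algebraMap A₀ A a)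
      rw [← Algebra.TensorProduct.algebraMap_apply' (R := A₀) (A := F) (B := A) a]
      rw [IsScalarTower.algebraMap_apply A₀ F A']
      exact (IsLocalization.map_units F (⟨a, hay⟩ : y₀.primeCompl)).map _
    haveI : Algebra.IsIntegral A₀ A := inferInstance
    obtain ⟨x₂, hx₂, hx₂p, hx₂o⟩ := Ideal.exists_ideal_over_prime_of_isIntegral y₀ x₁ hy₁
    obtain ⟨k, hk⟩ := Algebra.IsInvariant.exists_smul_of_under_eq A₀ A (SG.{u} n) x₀ x₂ (by
      rw [Ideal.under_def, Ideal.under_def]; exact hx₂o.symm)
    refine hg (ULift.ext _ _ (Equiv.ext fun i => ?_))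
    obtain ⟨j, rfl⟩ := k.down.surjective i
    have h1 : g • τ (k.down j) - τ (k.down j) ∈ x₂ := hx₂ (by
      show (1 : F) ⊗ₜ[A₀] (g • τ (k.down j) - τ (k.down j)) ∈ m
      rw [TensorProduct.tmul_sub]
      exact hle (Ideal.subset_span ⟨(1 : F) ⊗ₜ[A₀] τ (k.down j), rfl⟩))
    rw [hk, Ideal.pointwise_smul_eq_comap, Ideal.mem_comap] at h1
    change k⁻¹ • (g • τ (k.down j) - τ (k.down j)) ∈ x₀ at h1
    rw [hτ, smul_sub, hτ, hτ] at h1
    have h2 := hsep _ _ h1
    exact (k⁻¹).down.injective h2
  have hrank := finrank_of_free (B := F) (A := A') hfree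
  have h2 := Module.rankAtStalk_baseChange (R := A₀) (M := A) (S := F) (IsLocalRing.closedPoint F)
  rw [Module.rankAtStalk_eq_finrank_of_free, Pi.natCast_apply, Nat.cast_id, hrank,
    Nat.card_congr (Equiv.ulift : SG.{u} n ≃ Equiv.Perm (Fin n)), Nat.card_perm, Nat.card_fin] at h2
  rw [h2]
  congr 1
  exact PrimeSpectrum.ext (Localization.AtPrime.under_maximalIdeal).symm

end Groth.Agent.SymCurve
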