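import Groth.Agent.QuotScheme.FreeAlg
import Groth.Agent.InvQuotSp.Base
import Groth.Agent.Purity.FlatPurity
import Groth.Agent.SerreReg.CM
import Groth.Agent.SerreReg.Descent
import Groth.Agent.RegQuotPoint.Basic

/-!
# Regular points of quotients by finite groups: free points, and codimension two fixed loci
-/

set_option autoImplicit false
set_option linter.style.haveILetI false
set_option maxHeartbeats 1000000

universe u

open IsLocalRing
open scoped TensorProduct Groth.Agent.InvQuotSp

namespace Groth.Agent.SymCurve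

variable {A A₀ : Type u} [CommRing A] [CommRing A₀] [Algebra A₀ A]
  (G : Type u) [Group G] [Finite G] [MulSemiringAction G A] [SMulCommClass G A₀ A]
  [Algebra.IsInvariant A₀ A G]

/-- Inertia is trivial at every prime over the image of a point with trivial inertia. -/
theorem trivial_inertia_below (x : Ideal A) [x.IsPrime] (hx : ∀ g : G, g ∈ x.inertia G → g = 1)
    (Q : Ideal A) [Q.IsPrime] (hQ : Q.comap (algebraMap A₀ A) ≤ x.comap (algebraMap A₀ A)) (g : G)
    (hg : g ∈ Q.inertia G) : g = 1 := by
  haveI : Algebra.IsIntegral A₀ A := Algebra.IsInvariant.isIntegral A₀ A G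
  obtain ⟨x₂, hx₂, hx₂p, hx₂o⟩ := Ideal.exists_ideal_over_prime_of_isIntegral (x.comap (algebraMap A₀ A)) Q hQ
  obtain ⟨k, hk⟩ := Algebra.IsInvariant.exists_smul_of_under_eq A₀ A G x x₂ (by
    rw [Ideal.under_def, Ideal.under_def]; exact hx₂o.symm)
  have h : k⁻¹ * g * k = 1 := hx _ fun a => by
    have h1 : g • (k • a) - k • a ∈ x₂ := hx₂ (hg (k • a))
    rw [hk, Ideal.pointwise_smul_eq_comap, Ideal.mem_comap] at h1
    change k⁻¹ • (g • (k • a) - k • a) ∈ x at h1
    rw [smul_sub, smul_smul, smul_smul, inv_smul_smul] at h1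
    rwa [mul_assoc] at h1 ⊢
  have h2 : g * k = k := by
    calc g * k = k * (k⁻¹ * g * k) := by group
      _ = k := by rw [h, mul_one]
  exact mul_eq_right.1 h2

/-- At a point with trivial inertia the algebra is flat and unramified over the invariants. -/
theorem flat_unramified_of_free (hinj : Function.Injective (algebraMap A₀ A)) (x : Ideal A) [x.IsPrime]
    (hx : ∀ g : G, g ∈ x.inertia G → g = 1) :
    Module.Flat A₀ (Localization.AtPrime x) ∧ Algebra.FormallyUnramified A₀ (Localization.AtPrime x) := by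
  classical
  let y := x.comap (algebraMap A₀ A)
  let F := Localization.AtPrime y
  let A' := F ⊗[A₀] A
  haveI : Algebra.IsInvariant F A' G := InvQuotSp.isInvariant_bc G F
  have hinj' : Function.Injective (algebraMap F A') := by
    have := Module.Flat.lTensor_preserves_injective_linearMap (M := F) (Algebra.linearMap A₀ A) hinj
    intro a b hab
    refine (TensorProduct.rid A₀ F).symm.injective (this ?_)
    simp only [TensorProduct.rid_symm_apply, LinearMap.lTensor_tmul, Algebra.linearMap_apply, map_one]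
    exact hab
  have hfree : ∀ g : G, g ≠ 1 → Ideal.span (Set.range fun a : A' => g • a - a) = ⊤ := by
    intro g hg
    by_contra htop
    obtain ⟨m, hm, hle⟩ := Ideal.exists_le_maximal _ htop
    let Q := m.comap (Algebra.TensorProduct.includeRight (R := A₀) (A := F) (B := A)).toRingHom
    have hQ : Q.comap (algebraMap A₀ A) ≤ y := fun a ha => by
      by_contra hay
      refine hm.ne_top (Ideal.eq_top_of_isUnit_mem _ ha ?_)
      show IsUnit ((1 : F) ⊗ₜ[A₀] algebraMap A₀ A a)
      rw [← Algebra.TensorProduct.algebraMap_apply' (R := A₀) (A := F) (B := A) a]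
      rw [IsScalarTower.algebraMap_apply A₀ F A']
      exact (IsLocalization.map_units F (⟨a, hay⟩ : y.primeCompl)).map _
    refine hg (trivial_inertia_below G x hx Q hQ g fun a => ?_)
    show (1 : F) ⊗ₜ[A₀] (g • a - a) ∈ m
    rw [TensorProduct.tmul_sub]
    exact hle (Ideal.subset_span ⟨(1 : F) ⊗ₜ[A₀] a, rfl⟩)
  obtain ⟨-, -, hflat, hunr⟩ := QuotScheme.etale_of_free hfree hinj'
  haveI := hflat
  haveI := hunr
  haveI : Algebra.FormallyUnramified A₀ F := Algebra.FormallyUnramified.of_isLocalization y.primeCompl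
  haveI : Algebra.FormallyUnramified A₀ A' := Algebra.FormallyUnramified.comp A₀ F A'
  haveI : Module.Flat A₀ F := IsLocalization.flat F y.primeCompl
  haveI : Module.Flat A₀ A' := Module.Flat.trans A₀ F A'
  letI : Algebra A A' := Algebra.TensorProduct.rightAlgebra
  haveI : IsScalarTower A₀ A A' := IsScalarTower.of_algebraMap_eq fun r =>
    Algebra.TensorProduct.algebraMap_apply' r
  haveI : IsLocalization (Algebra.algebraMapSubmonoid A y.primeCompl) A' :=
    IsLocalization.tensorRight (R := A₀) (S := A) F y.primeCompl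
  have hle : Algebra.algebraMapSubmonoid A y.primeCompl ≤ x.primeCompl := by
    rintro _ ⟨r, hr, rfl⟩
    exact hr
  let Ax := Localization.AtPrime x
  letI : Algebra A' Ax :=
    IsLocalization.localizationAlgebraOfSubmonoidLe A' Ax (Algebra.algebraMapSubmonoid A y.primeCompl) x.primeCompl hle
  haveI : IsScalarTower A A' Ax :=
    IsLocalization.localization_isScalarTower_of_submonoid_le A' Ax _ x.primeCompl hle
  haveI : IsLocalization (x.primeCompl.map (algebraMap A A')) Ax :=
    IsLocalization.isLocalization_of_submonoid_le A' Ax (Algebra.algebraMapSubmonoid A y.primeCompl) x.primeCompl hle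
  haveI : IsScalarTower A₀ A' Ax := IsScalarTower.of_algebraMap_eq fun r => by
    exact (IsScalarTower.algebraMap_apply A₀ A Ax r).trans ((IsScalarTower.algebraMap_apply A A' Ax _).trans
      (congrArg (algebraMap A' Ax) (IsScalarTower.algebraMap_apply A₀ A A' r).symm))
  haveI : Module.Flat A' Ax := IsLocalization.flat Ax (x.primeCompl.map (algebraMap A A'))
  haveI : Algebra.FormallyUnramified A' Ax :=
    Algebra.FormallyUnramified.of_isLocalization (x.primeCompl.map (algebraMap A A'))
  exact ⟨Module.Flat.trans A₀ A' Ax, Algebra.FormallyUnramified.comp A₀ A' Ax⟩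

include G in
/-- The local ring of the quotient below a free regular point is regular. -/
theorem regular_of_free [IsNoetherianRing A₀] (hinj : Function.Injective (algebraMap A₀ A)) (x : Ideal A)
    [x.IsPrime] [IsRegularLocalRing (Localization.AtPrime x)] (hx : ∀ g : G, g ∈ x.inertia G → g = 1) :
    IsRegularLocalRing (Localization.AtPrime (x.comap (algebraMap A₀ A))) := by
  let y := x.comap (algebraMap A₀ A)
  haveI := (flat_unramified_of_free G hinj x hx).1
  let F := Localization.AtPrime y
  let Ax := Localization.AtPrime x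
  haveI : x.LiesOver y := ⟨rfl⟩
  letI : Algebra F Ax := Localization.AtPrime.algebraOfLiesOver y x
  haveI : IsScalarTower A₀ F Ax := IsScalarTower.of_algebraMap_eq fun a => by
    show _ = Localization.localRingHom y x (algebraMap A₀ A) _ (algebraMap A₀ F a)
    rw [Localization.localRingHom_to_map, ← IsScalarTower.algebraMap_apply]
  haveI : IsLocalHom (algebraMap F Ax) := Localization.isLocalHom_localRingHom _ _ _ (x.over_def y)
  haveI : Module.Flat F Ax := (Module.flat_iff_of_isLocalization F y.primeCompl Ax).2 inferInstance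
  exact SerreReg.isRegularLocalRing_of_flat F Ax

include G in
/-- Heights are preserved in the invariants. -/
theorem height_comap_eq (hinj : Function.Injective (algebraMap A₀ A)) (x : Ideal A) [x.IsPrime] :
    (x.comap (algebraMap A₀ A)).height = x.height := by
  classical
  haveI : Algebra.IsIntegral A₀ A := Algebra.IsInvariant.isIntegral A₀ A G
  refine le_antisymm ?_ (Purity.height_le_comap x)
  have key : ∀ (n : ℕ) (p : PrimeSpectrum A₀), (n : ℕ∞) ≤ Order.height p →
      ∃ Q : PrimeSpectrum A, Q.asIdeal.comap (algebraMap A₀ A) = p.asIdeal ∧ (n : ℕ∞) ≤ Order.height Q := by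
    intro n
    induction n with
    | zero =>
      intro p _
      obtain ⟨Q, -, hQ, hQp⟩ := Ideal.exists_ideal_over_prime_of_isIntegral p.asIdeal (⊥ : Ideal A)
        (by rw [← RingHom.ker, (RingHom.injective_iff_ker_eq_bot _).mp hinj]; exact bot_le)
      exact ⟨⟨Q, hQ⟩, hQp, zero_le⟩
    | succ n ih =>
      intro p hp
      obtain ⟨q, hqp, hq⟩ : ∃ q < p, (n : ℕ∞) ≤ Order.height q := by
        obtain ⟨s, hlast, hlen⟩ := Order.exists_series_of_le_height p hp
        refine ⟨s.eraseLast.last, ?_, ?_⟩
        · rw [← hlast]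
          exact s.eraseLast_last_rel_last (by omega)
        · have h := Order.length_le_height_last (p := s.eraseLast)
          rw [RelSeries.eraseLast_length, hlen] at h
          simpa using h
      obtain ⟨Q', hQ', hQn⟩ := ih q hq
      haveI := Q'.isPrime
      obtain ⟨Q, hle, hQ, hQp⟩ := Ideal.exists_ideal_over_prime_of_isIntegral p.asIdeal Q'.asIdeal
        (hQ'.le.trans hqp.le)
      refine ⟨⟨Q, hQ⟩, hQp, ?_⟩
      have hlt : Q' < ⟨Q, hQ⟩ := lt_of_le_of_ne hle fun h => hqp.ne (PrimeSpectrum.ext (by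
        rw [← hQ', ← hQp, h]))
      calc ((n + 1 : ℕ) : ℕ∞) ≤ Order.height Q' + 1 := by push_cast; gcongr
        _ ≤ _ := Order.height_add_one_le hlt
  refine ENat.forall_natCast_le_iff_le.mp fun n hn => ?_
  obtain ⟨Q, hQ, hQn⟩ := key n ⟨x.comap (algebraMap A₀ A), inferInstance⟩ (by
    rwa [← PrimeSpectrum.height_eq_orderHeight])
  obtain ⟨k, hk⟩ := Algebra.IsInvariant.exists_smul_of_under_eq A₀ A G x Q.asIdeal (by
    rw [Ideal.under_def, Ideal.under_def]; exact hQ.symm)
  rw [← PrimeSpectrum.height_eq_orderHeight, hk, Ideal.pointwise_smul_eq_comap] at hQn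
  exact hQn.trans_eq ((MulSemiringAction.toRingEquiv G A k⁻¹).height_comap x)

include G in
/-- Over a regular local ring of the invariants a regular point is flat. -/
theorem flat_of_regular [IsNoetherianRing A] (hinj : Function.Injective (algebraMap A₀ A)) (x : Ideal A)
    [x.IsPrime] [IsRegularLocalRing (Localization.AtPrime x)]
    [IsRegularLocalRing (Localization.AtPrime (x.comap (algebraMap A₀ A)))] :
    Module.Flat A₀ (Localization.AtPrime x) := by
  classical
  haveI : Algebra.IsIntegral A₀ A := Algebra.IsInvariant.isIntegral A₀ A G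
  let y := x.comap (algebraMap A₀ A)
  let F := Localization.AtPrime y
  let Ax := Localization.AtPrime x
  haveI : x.LiesOver y := ⟨rfl⟩
  letI : Algebra F Ax := Localization.AtPrime.algebraOfLiesOver y x
  haveI : IsScalarTower A₀ F Ax := IsScalarTower.of_algebraMap_eq fun a => by
    show _ = Localization.localRingHom y x (algebraMap A₀ A) _ (algebraMap A₀ F a)
    rw [Localization.localRingHom_to_map, ← IsScalarTower.algebraMap_apply]
  haveI : IsLocalHom (algebraMap F Ax) := Localization.isLocalHom_localRingHom _ _ _ (x.over_def y)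
  obtain ⟨d, hd⟩ := SerreReg.exists_dim_nat F
  have hdA : ringKrullDim Ax = d := by
    rw [← hd, IsLocalization.AtPrime.ringKrullDim_eq_height x Ax,
      IsLocalization.AtPrime.ringKrullDim_eq_height y F, height_comap_eq G hinj x]
  obtain ⟨rs, hlen, hreg, hspan⟩ := SerreReg.exists_regular_rsop d F hd
  obtain ⟨rA, hlenA, hregA, hspanA⟩ := SerreReg.exists_regular_rsop d Ax hdA
  let a : Fin d → Ax := fun i => algebraMap F Ax (rs[(i : ℕ)]'(hlen ▸ i.2))
  have hrange : Ideal.span (Set.range a) = (maximalIdeal F).map (algebraMap F Ax) := by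
    rw [← hspan, Ideal.map_ofList, Ideal.ofList]
    congr 1
    ext v
    simp only [Set.mem_range, Set.mem_ofPred_eq, List.mem_map]
    constructor
    · rintro ⟨i, rfl⟩
      exact ⟨_, List.getElem_mem (hlen ▸ i.2), rfl⟩
    · rintro ⟨r, hr, rfl⟩
      obtain ⟨i, hi, rfl⟩ := List.getElem_of_mem hr
      exact ⟨⟨i, hlen ▸ hi⟩, rfl⟩
  have hy : (maximalIdeal F) = y.map (algebraMap A₀ F) := Localization.AtPrime.map_eq_maximalIdeal.symm
  have hsop : CMSop.IsSop a := by
    rw [CMSop.IsSop, hrange, Ideal.radical_eq_sInf]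
    refine le_antisymm (sInf_le ⟨?_, (maximalIdeal.isMaximal Ax).isPrime⟩) (le_sInf ?_)
    · exact Ideal.map_le_iff_le_comap.2 (IsLocalRing.maximalIdeal_comap (algebraMap F Ax)).ge
    · rintro J ⟨hJ, hJp⟩
      haveI := hJp
      let J' := J.comap (algebraMap A Ax)
      have hle : J' ≤ x := fun b hb => (IsLocalization.AtPrime.to_map_mem_maximal_iff Ax x b).1
        (le_maximalIdeal hJp.ne_top hb)
      have heq : J'.comap (algebraMap A₀ A) = y := by
        refine le_antisymm (Ideal.comap_mono hle) fun r hr => ?_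
        show algebraMap A Ax (algebraMap A₀ A r) ∈ J
        rw [← IsScalarTower.algebraMap_apply, IsScalarTower.algebraMap_apply A₀ F Ax]
        exact hJ (Ideal.mem_map_of_mem _ (hy ▸ Ideal.mem_map_of_mem _ hr))
      have hJx : J' = x := by
        by_contra hne
        exact (Ideal.IsIntegral.comap_lt_comap (R := A₀) (lt_of_le_of_ne hle hne)).ne heq
      rw [← Localization.AtPrime.map_eq_maximalIdeal (I := x)]
      exact Ideal.map_le_iff_le_comap.2 hJx.ge
  have hR : CMSop.HasRegSeq (R := Ax) d Ax := hlenA ▸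
    CMSop.hasRegSeq_of_isWeaklyRegular rA Ax hregA (fun r hr => hspanA ▸ Ideal.subset_span hr)
  have hw := SerreReg.isWeaklyRegular_take_of_isSop hsop hR d
  have hlist : (List.ofFn a).take d = rs.map (algebraMap F Ax) := by
    refine List.ext_getElem (by simp [hlen]) fun i h1 h2 => ?_
    simp [a]
  rw [hlist] at hw
  haveI : Module.Flat F Ax := SerreReg.flat_of_regular_rsop d F hd rs hlen hreg hspan Ax
    ((RingTheory.Sequence.isWeaklyRegular_map_algebraMap_iff Ax Ax rs).1 hw)
  haveI : Module.Flat A₀ F := IsLocalization.flat F y.primeCompl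
  exact Module.Flat.trans A₀ F Ax

variable {k : Type u} [Field k] [Algebra k A]

/-- A functional detecting a group element moving tangent directions forces a singular quotient. -/
theorem not_regular_of_inertia [IsNoetherianRing A] [IsNoetherianRing A₀] [Algebra.FiniteType A₀ A]
    (hinj : Function.Injective (algebraMap A₀ A)) (x : Ideal A) [x.IsPrime]
    [IsRegularLocalRing (Localization.AtPrime x)] (h1 : (1 : WithBot ℕ∞) ≤ ringKrullDim (Localization.AtPrime x))
    (hcodim : ∀ Q : Ideal A, Q.IsPrime → Q ≤ x → Q.height ≤ 1 → ∀ g : G, g ∈ Q.inertia G → g = 1)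
    (φ : A →ₐ[k] DualNumber k) (hφ : ∀ a, a ∈ x ↔ TrivSqZeroExt.fst (φ a) = 0)
    (g : G) (hg : ∀ a, TrivSqZeroExt.fst (φ (g • a)) = TrivSqZeroExt.fst (φ a))
    (w : A) (hw : w ∈ x) (hgw : TrivSqZeroExt.snd (φ (g • w)) ≠ TrivSqZeroExt.snd (φ w)) :
    ¬ IsRegularLocalRing (Localization.AtPrime (x.comap (algebraMap A₀ A))) := by
  classical
  intro hreg
  let y := x.comap (algebraMap A₀ A)
  haveI : Algebra.IsIntegral A₀ A := Algebra.IsInvariant.isIntegral A₀ A G
  haveI : Module.Finite A₀ A := Algebra.IsIntegral.finite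
  haveI := flat_of_regular G hinj x
  haveI : x.LiesOver y := ⟨rfl⟩
  haveI : Algebra.FormallyUnramified A₀ (Localization.AtPrime x) :=
    Purity.unramified_of_flat_quasiFiniteAt y x h1 fun Q hQ hQx hQ1 => by
      haveI := hQ
      rw [IsLocalization.AtPrime.ringKrullDim_eq_height Q (Localization.AtPrime Q)] at hQ1
      exact (flat_unramified_of_free G hinj Q (hcodim Q hQ hQx (le_of_eq (WithBot.coe_eq_coe.1 hQ1)))).2
  haveI : Algebra.IsUnramifiedAt A₀ x := ‹Algebra.FormallyUnramified A₀ (Localization.AtPrime x)›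
  letI := Localization.AtPrime.algebraOfLiesOver y x
  have hmap := ((Algebra.isUnramifiedAt_iff_map_eq A₀ y x).1 inferInstance).2
  have hw' : algebraMap A (Localization.AtPrime x) w ∈ (y.map (algebraMap A₀ A)).map
      (algebraMap A (Localization.AtPrime x)) := by
    rw [Ideal.map_map, ← IsScalarTower.algebraMap_eq, hmap]
    exact (IsLocalization.AtPrime.to_map_mem_maximal_iff _ x w).2 hw
  obtain ⟨s, hs, hsw⟩ := (IsLocalization.algebraMap_mem_map_algebraMap_iff x.primeCompl
    (Localization.AtPrime x) _ w).1 hw'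
  let L : A → k := fun a => TrivSqZeroExt.snd (φ (g • a)) - TrivSqZeroExt.snd (φ a)
  have hL : ∀ e ∈ y.map (algebraMap A₀ A), L e = 0 := by
    intro e he
    rw [Ideal.map] at he
    induction he using Submodule.span_induction with
    | mem e he =>
      obtain ⟨r, -, rfl⟩ := he
      simp [L]
    | zero => simp [L]
    | add a b _ _ ha hb =>
      simp only [L, smul_add, map_add, TrivSqZeroExt.snd_add] at ha hb ⊢
      linear_combination ha + hb
    | smul c e he ih =>
      have he0 : TrivSqZeroExt.fst (φ e) = 0 := (hφ e).1 (Ideal.map_le_iff_le_comap.2 le_rfl he)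
      simp only [L, smul_eq_mul, smul_mul', map_mul, TrivSqZeroExt.snd_mul, hg, he0] at ih ⊢
      simp only [MulOpposite.op_zero, zero_smul, add_zero]
      linear_combination (TrivSqZeroExt.fst (φ c)) * ih
  have h2 := hL _ hsw
  have hw0 := (hφ w).1 hw
  simp only [L, smul_mul', map_mul, TrivSqZeroExt.snd_mul, hg, hw0] at h2
  simp only [MulOpposite.op_zero, zero_smul, add_zero, smul_eq_mul, sub_eq_zero] at h2
  exact (mul_eq_mul_left_iff.1 h2).elim hgw fun h => hs ((hφ s).2 h)

omit [Finite G] [MulSemiringAction G A] in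
/-- A prime containing two elements with independent differentials at a regular point has height two. -/
theorem two_le_height (x : Ideal A) [x.IsPrime] [IsRegularLocalRing (Localization.AtPrime x)]
    (φ : Fin 2 → (A →ₐ[k] DualNumber k)) (hφ : ∀ j a, a ∈ x ↔ TrivSqZeroExt.fst (φ j a) = 0)
    (u : Fin 2 → A) (hu : ∀ i j, TrivSqZeroExt.snd (φ j (u i)) = if i = j then 1 else 0)
    (Q : Ideal A) [Q.IsPrime] (hQx : Q ≤ x) (huQ : ∀ i, u i ∈ Q) : 2 ≤ Q.height := by
  classical
  let L := Localization.AtPrime x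
  have hunit : ∀ j, ∀ a : x.primeCompl, IsUnit (φ j a.1) := fun j a => by
    rw [TrivSqZeroExt.isUnit_iff_isUnit_fst, isUnit_iff_ne_zero]
    exact fun h => a.2 ((hφ j _).2 h)
  let ψ : Fin 2 → (L →+* DualNumber k) := fun j =>
    IsLocalization.lift (M := x.primeCompl) (g := (φ j).toRingHom) (hunit j)
  have hψ : ∀ j a, ψ j (algebraMap A L a) = φ j a := fun j a => IsLocalization.lift_eq _ a
  have hψm : ∀ j, ∀ z ∈ maximalIdeal L, TrivSqZeroExt.fst (ψ j z) = 0 := fun j z hz => by
    obtain ⟨⟨a, s⟩, has⟩ := IsLocalization.surj x.primeCompl z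
    have ha : a ∈ x := (IsLocalization.AtPrime.to_map_mem_maximal_iff L x a).1
      (has ▸ Ideal.mul_mem_right _ _ hz)
    have h2 := congrArg (fun v => TrivSqZeroExt.fst (ψ j v)) has
    simp only [map_mul, hψ, TrivSqZeroExt.fst_mul, (hφ j a).1 ha, mul_eq_zero] at h2
    exact h2.resolve_right fun h => s.2 ((hφ j _).2 h)
  let v : Fin 2 → L := fun i => algebraMap A L (u i)
  have hvm : ∀ i, v i ∈ maximalIdeal L := fun i =>
    (IsLocalization.AtPrime.to_map_mem_maximal_iff L x (u i)).2 (hQx (huQ i))
  have hv0 : v 0 ≠ 0 := fun h => by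
    have h2 := congrArg (fun z => TrivSqZeroExt.snd (ψ 0 z)) h
    simp only [v, hψ, map_zero, TrivSqZeroExt.snd_zero, hu] at h2
    simp at h2
  haveI := RegLoc.isDomain L
  obtain ⟨d, hd⟩ : ∃ d : ℕ, ringKrullDim L = (d + 1 : ℕ) := by
    obtain ⟨n, hn⟩ := SerreReg.exists_dim_nat L
    rcases n with _ | m
    · refine absurd ?_ hv0
      have hmin : maximalIdeal L = ⊥ := by
        haveI : Ring.KrullDimLE 0 L := by
          rw [Ring.krullDimLE_iff]; exact hn.le
        exact ((Ideal.IsPrime.isMaximal' (Ideal.isPrime_bot (α := L))).eq_of_le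
          (maximalIdeal.isMaximal L).ne_top bot_le).symm
      have := hvm 0
      rwa [hmin, Ideal.mem_bot] at this
    · exact ⟨m, hn⟩
  obtain ⟨hreg, -⟩ := RegQuotPoint.regular_quot (fun _ : Fin 1 => v 0) (fun _ => hvm 0) hd fun a ha =>
    RegQuotPoint.indep_of_dual (fun _ : Fin 1 => v 0) (fun _ => ψ 0) (fun _ => hψm 0)
      (fun _ _ => hψm 0 _ (hvm 0)) (fun _ => by simp [v, hψ, hu]) (fun i j h => absurd (Subsingleton.elim i j) h) a ha
  haveI := hreg
  haveI := RegLoc.isDomain (L ⧸ Ideal.span (Set.range fun _ : Fin 1 => v 0))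
  let P := Ideal.span (Set.range fun _ : Fin 1 => v 0)
  haveI : P.IsPrime := (Ideal.Quotient.isDomain_iff_prime P).1 inferInstance
  have hdisj : Disjoint (x.primeCompl : Set A) (Q : Set A) := Set.disjoint_left.2 fun a ha haQ => ha (hQx haQ)
  let QL := Q.map (algebraMap A L)
  haveI : QL.IsPrime := IsLocalization.isPrime_of_isPrime_disjoint x.primeCompl L Q ‹_› hdisj
  have hP0 : (⊥ : Ideal L) < P := bot_lt_iff_ne_bot.2 fun h => hv0 (by
    have : v 0 ∈ P := Ideal.subset_span ⟨0, rfl⟩
    rwa [h, Ideal.mem_bot] at this)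
  have hPQ : P < QL := by
    refine lt_of_le_of_ne (Ideal.span_le.2 ?_) fun h => ?_
    · rintro _ ⟨_, rfl⟩; exact Ideal.mem_map_of_mem _ (huQ 0)
    · have h1 : v 1 ∈ P := h ▸ Ideal.mem_map_of_mem _ (huQ 1)
      rw [show P = Ideal.span {v 0} by simp [P]] at h1
      obtain ⟨c, hc⟩ := Ideal.mem_span_singleton'.1 h1
      have h2 := congrArg (fun z => TrivSqZeroExt.snd (ψ 1 z)) hc
      simp only [map_mul, TrivSqZeroExt.snd_mul, v, hψ, hu, (hφ 1 (u 0)).1 (hQx (huQ 0))] at h2
      simp at h2
  have h01 : (⊥ : Ideal L).height < P.height := Ideal.height_strict_mono_of_isPrime hP0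
  have h12 : P.height < QL.height := Ideal.height_strict_mono_of_isPrime hPQ
  rw [← IsLocalization.height_map_of_disjoint (S := L) x.primeCompl Q hdisj]
  exact Order.succ_le_of_lt (lt_of_le_of_lt (Order.succ_le_of_lt (lt_of_le_of_lt zero_le h01)) h12)

end Groth.Agent.SymCurve
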