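import Groth.Agent.SymCurve.Sep
import Groth.Agent.SymCurve.Sing

/-!
# Two tangent directions at a regular rational point, and codimension of diagonals
-/

set_option autoImplicit false
set_option linter.style.haveILetI false
set_option maxHeartbeats 1000000

universe u

open IsLocalRing

namespace Groth.Agent.SymCurve

variable {k B : Type u} [Field k] [CommRing B] [Algebra k B]

set_option backward.isDefEq.respectTransparency false in
/-- Two independent dual number points at a regular rational point of dimension at least two. -/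
theorem exists_dual_pair (β : B →ₐ[k] k) [IsNoetherianRing B] (Q : Ideal B) [Q.IsPrime] (hQ : ∀ b, b ∈ Q ↔ β b = 0)
    [IsRegularLocalRing (Localization.AtPrime Q)] (hd : (2 : WithBot ℕ∞) ≤ ringKrullDim (Localization.AtPrime Q)) :
    ∃ (δ : Fin 2 → (B →ₐ[k] DualNumber k)) (t : Fin 2 → B),
      (∀ j b, TrivSqZeroExt.fst (δ j b) = β b) ∧ (∀ i, β (t i) = 0) ∧
      ∀ i j, TrivSqZeroExt.snd (δ j (t i)) = if i = j then 1 else 0 := by
  classical
  let L := Localization.AtPrime Q
  have hunit : ∀ y : Q.primeCompl, IsUnit (β y.1) := fun y => isUnit_iff_ne_zero.2 fun h => y.2 ((hQ _).2 h)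
  let ev : L →ₐ[k] k := IsLocalization.liftAlgHom (M := Q.primeCompl) (f := β) hunit
  have hev : ∀ b, ev (algebraMap B L b) = β b := fun b => IsLocalization.lift_eq _ b
  have hevm : ∀ z, z ∈ maximalIdeal L → ev z = 0 := fun z hz => by
    obtain ⟨⟨a, s⟩, has⟩ := IsLocalization.surj Q.primeCompl z
    have ha : a ∈ Q := (IsLocalization.AtPrime.to_map_mem_maximal_iff L Q a).1 (has ▸ Ideal.mul_mem_right _ _ hz)
    have h2 := congrArg ev has
    rw [map_mul, hev, hev, (hQ a).1 ha] at h2
    exact (mul_eq_zero.1 h2).resolve_right (hunit s).ne_zero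
  have hevm' : ∀ z, z - algebraMap k L (ev z) ∈ maximalIdeal L := fun z => by
    by_contra h
    have := ((IsLocalRing.notMem_maximalIdeal.1 h).map ev)
    rw [map_sub, AlgHom.commutes, Algebra.algebraMap_self, RingHom.id_apply, sub_self] at this
    exact not_isUnit_zero this
  let evb : ResidueField L →+* k := Ideal.Quotient.lift (maximalIdeal L) ev.toRingHom hevm
  have hevb : ∀ z, evb (residue L z) = ev z := fun z => rfl
  have hrank : 2 ≤ Module.finrank (ResidueField L) (CotangentSpace L) := by
    have h := (IsRegularLocalRing.iff_finrank_cotangentSpace L).mp inferInstance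
    rw [← h] at hd
    exact_mod_cast hd
  let bC := Module.finBasis (ResidueField L) (CotangentSpace L)
  let c : L → CotangentSpace L := fun z => (maximalIdeal L).toCotangent ⟨_, hevm' z⟩
  let D : Fin 2 → L → k := fun a z => evb (bC.repr (c z) (Fin.castLE hrank a))
  have hadd : ∀ a z z', D a (z + z') = D a z + D a z' := fun a z z' => by
    have : c (z + z') = c z + c z' := by
      rw [← map_add]
      refine congrArg _ (Subtype.ext ?_)
      show z + z' - algebraMap k L (ev (z + z')) = _ + _
      rw [map_add, map_add]; ring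
    simp only [D, this, map_add, Finsupp.add_apply]
  have hmul : ∀ a z z', D a (z * z') = ev z * D a z' + ev z' * D a z := fun a z z' => by
    have hsq : (z - algebraMap k L (ev z)) * (z' - algebraMap k L (ev z')) ∈ maximalIdeal L ^ 2 := by
      rw [pow_two]; exact Ideal.mul_mem_mul (hevm' z) (hevm' z')
    have : c (z * z') = algebraMap k L (ev z) • c z' + algebraMap k L (ev z') • c z := by
      rw [← map_smul, ← map_smul, ← map_add, Ideal.toCotangent_eq]
      convert hsq using 1
      simp only [Submodule.coe_add, Submodule.coe_smul, smul_eq_mul, map_mul]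
      ring
    have hs : ∀ (r : k) (v : CotangentSpace L), algebraMap k L r • v = residue L (algebraMap k L r) • v :=
      fun r v => (algebraMap_smul (ResidueField L) (algebraMap k L r) v).symm
    simp only [D, this, hs, map_add, map_smul, Finsupp.add_apply, Finsupp.smul_apply, smul_eq_mul, map_mul, hevb,
      AlgHom.commutes, Algebra.algebraMap_self, RingHom.id_apply]
  have halg : ∀ a r, D a (algebraMap k L r) = 0 := fun a r => by
    have : c (algebraMap k L r) = 0 := by
      rw [Ideal.toCotangent_eq_zero]
      simp
    simp [D, this]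
  let δL : Fin 2 → (L →ₐ[k] DualNumber k) := fun a =>
    { toFun := fun z => TrivSqZeroExt.inl (ev z) + TrivSqZeroExt.inr (D a z)
      map_one' := by
        have h1 : D a 1 = 0 := by simpa using halg a 1
        simp [h1]
      map_mul' := fun z z' => by
        refine TrivSqZeroExt.ext ?_ ?_
        · simp
        · simp [hmul]; ring
      map_zero' := by
        have h0 : D a 0 = 0 := by simpa using halg a 0
        simp [h0]
      map_add' := fun z z' => by
        refine TrivSqZeroExt.ext ?_ ?_
        · simp
        · simp [hadd]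
      commutes' := fun r => by
        refine TrivSqZeroExt.ext ?_ ?_
        · simp [TrivSqZeroExt.algebraMap_eq_inl]
        · simp [TrivSqZeroExt.algebraMap_eq_inl, halg] }
  have hz : ∀ i : Fin 2, ∃ z : maximalIdeal L, (maximalIdeal L).toCotangent z = bC (Fin.castLE hrank i) := fun i =>
    Ideal.toCotangent_surjective _ _
  choose z hz using hz
  choose p hp using fun i => IsLocalization.surj Q.primeCompl (z i).1
  refine ⟨fun j => (δL j).comp (IsScalarTower.toAlgHom k B L), fun i => (β (p i).2.1)⁻¹ • (p i).1,
    fun j b => by simp [δL, hev], fun i => ?_, fun i j => ?_⟩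
  · rw [map_smul]
    have : (p i).1 ∈ Q :=
      (IsLocalization.AtPrime.to_map_mem_maximal_iff L Q _).1 (hp i ▸ Ideal.mul_mem_right _ _ (z i).2)
    rw [(hQ _).1 this, smul_zero]
  · have hne : β (p i).2.1 ≠ 0 := (hunit (p i).2).ne_zero
    have hDz : D j (z i).1 = if i = j then 1 else 0 := by
      have : c (z i).1 = bC (Fin.castLE hrank i) := by
        rw [← hz i]
        refine congrArg _ (Subtype.ext ?_)
        show (z i).1 - algebraMap k L (ev (z i).1) = (z i).1
        rw [hevm _ (z i).2, map_zero, sub_zero]
      simp only [D, this, Module.Basis.repr_self, Finsupp.single_apply, (Fin.castLE_injective hrank).eq_iff]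
      split_ifs <;> simp
    have h1 : D j (algebraMap B L (p i).1) = β (p i).2.1 * (if i = j then 1 else 0) := by
      rw [← hp i, hmul, hev, hevm _ (z i).2, zero_mul, zero_add, hDz]
    simp only [AlgHom.comp_apply, IsScalarTower.coe_toAlgHom', map_smul, TrivSqZeroExt.snd_smul, smul_eq_mul]
    simp [δL, h1]
    split_ifs <;> simp [hne]

variable {A A₀ : Type u} [CommRing A] [Algebra k A] [CommRing A₀] [Algebra A₀ A] {n : ℕ}
  [MulSemiringAction (SG.{u} n) A] [SMulCommClass (SG.{u} n) k A] [SMulCommClass (SG.{u} n) A₀ A]
  [Algebra.IsInvariant A₀ A (SG.{u} n)]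

/-- On powers of a regular algebra of dimension at least two, the invariants are regular exactly below
points with distinct components. -/
theorem regular_iff_injective [IsNoetherianRing A] [IsNoetherianRing A₀] [Algebra.FiniteType A₀ A]
    [IsNoetherianRing B] (hinj : Function.Injective (algebraMap A₀ A))
    (s : Fin n → B →ₐ[k] A) (hs : IsPow s) (hact : ∀ (g : SG.{u} n) i b, g • s i b = s (g.down i) b)
    (pt : A →ₐ[k] k) (x : Ideal A) [x.IsPrime] (hx : ∀ a, a ∈ x ↔ pt a = 0)
    [IsRegularLocalRing (Localization.AtPrime x)]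
    (hB : ∀ Q : Ideal B, Q.IsMaximal → ∃ _ : Q.IsPrime, IsRegularLocalRing (Localization.AtPrime Q) ∧
      (2 : WithBot ℕ∞) ≤ ringKrullDim (Localization.AtPrime Q)) :
    IsRegularLocalRing (Localization.AtPrime (x.comap (algebraMap A₀ A))) ↔
      Function.Injective fun i => pt.comp (s i) := by
  classical
  constructor
  · intro hreg i j hij
    by_contra hne
    change pt.comp (s i) = pt.comp (s j) at hij
    let β := pt.comp (s i)
    let Q := RingHom.ker β.toRingHom
    have hmax : Q.IsMaximal := RingHom.ker_isMaximal_of_surjective _ fun r => ⟨algebraMap k B r, β.commutes r⟩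
    obtain ⟨hQp, hQreg, hQd⟩ := hB Q hmax
    haveI := hQp
    haveI := hQreg
    obtain ⟨δ, t, hδ, ht, hδt⟩ := exists_dual_pair β Q (fun b => Iff.rfl) hQd
    choose φ hφs using fun a : Fin 2 => hs.desc (C := DualNumber k) fun l =>
      if l = j then δ a else (TrivSqZeroExt.inlAlgHom k k k).comp (pt.comp (s l))
    have hfst : ∀ a, (TrivSqZeroExt.fstHom k k k).comp (φ a) = pt := fun a => hs.ext _ _ fun l => by
      rw [AlgHom.comp_assoc, hφs]
      split_ifs with h
      · subst h
        exact AlgHom.ext fun b => (hδ a b).trans (AlgHom.congr_fun hij b)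
      · exact AlgHom.ext fun b => by simp
    have hφx : ∀ a e, e ∈ x ↔ TrivSqZeroExt.fst (φ a e) = 0 := fun a e => by
      rw [hx, ← hfst a]; rfl
    have hD : ∀ a l b, TrivSqZeroExt.snd (φ a (s l b)) = if l = j then TrivSqZeroExt.snd (δ a b) else 0 := by
      intro a l b
      rw [show φ a (s l b) = _ from AlgHom.congr_fun (hφs a l) b]
      split_ifs <;> simp
    let u : Fin 2 → A := fun a => s j (t a) - s i (t a)
    have hu : ∀ a b, TrivSqZeroExt.snd (φ b (u a)) = if a = b then 1 else 0 := fun a b => by
      simp [u, hD, hne, hδt]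
    let σ : SG.{u} n := ⟨Equiv.swap i j⟩
    have hσ : ∀ a, pt (σ • a) = pt a := by
      have h : pt.comp (MulSemiringAction.toAlgHom k A σ) = pt := hs.ext _ _ fun l => AlgHom.ext fun b => by
        change pt (σ • s l b) = pt (s l b)
        rw [hact]
        rcases eq_or_ne l i with rfl | hli
        · rw [show σ.down l = j from Equiv.swap_apply_left _ _]; exact (AlgHom.congr_fun hij b).symm
        rcases eq_or_ne l j with rfl | hlj
        · rw [show σ.down l = i from Equiv.swap_apply_right _ _]; exact AlgHom.congr_fun hij b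
        · rw [show σ.down l = l from Equiv.swap_apply_of_ne_of_ne hli hlj]
      exact fun a => AlgHom.congr_fun h a
    have hux : ∀ a, u a ∈ x := fun a => by
      rw [hx, map_sub, show pt (s j (t a)) = β (t a) from (AlgHom.congr_fun hij (t a)).symm]
      exact sub_self _
    have hhx : (2 : ℕ∞) ≤ x.height := two_le_height x φ hφx u hu x le_rfl hux
    have hcodim : ∀ R : Ideal A, R.IsPrime → R ≤ x → R.height ≤ 1 →
        ∀ g : SG.{u} n, g ∈ R.inertia (SG.{u} n) → g = 1 := by
      intro R hR hRx hR1 g hg
      by_contra hg1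
      obtain ⟨a, ha⟩ : ∃ a, g.down a ≠ a := by
        by_contra hall
        push Not at hall
        exact hg1 (ULift.ext _ _ (Equiv.ext hall))
      let β' := pt.comp (s a)
      let Q' := RingHom.ker β'.toRingHom
      have hmax' : Q'.IsMaximal := RingHom.ker_isMaximal_of_surjective _ fun r => ⟨algebraMap k B r, β'.commutes r⟩
      obtain ⟨hQp', hQreg', hQd'⟩ := hB Q' hmax'
      haveI := hQp'
      haveI := hQreg'
      haveI := hR
      obtain ⟨δ', t', hδ', ht', hδt'⟩ := exists_dual_pair β' Q' (fun b => Iff.rfl) hQd'
      have heq : ∀ b, pt (s (g.down a) b) = pt (s a b) := fun b => by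
        have h := (hx _).1 (hRx (hg (s a b)))
        rwa [hact, map_sub, sub_eq_zero] at h
      choose φ' hφs' using fun c : Fin 2 => hs.desc (C := DualNumber k) fun l =>
        if l = g.down a then δ' c else (TrivSqZeroExt.inlAlgHom k k k).comp (pt.comp (s l))
      have hfst' : ∀ c, (TrivSqZeroExt.fstHom k k k).comp (φ' c) = pt := fun c => hs.ext _ _ fun l => by
        rw [AlgHom.comp_assoc, hφs']
        split_ifs with h
        · subst h
          exact AlgHom.ext fun b => (hδ' c b).trans (heq b).symm
        · exact AlgHom.ext fun b => by simp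
      have := two_le_height x φ' (fun c e => by rw [hx, ← hfst' c]; rfl)
        (fun c => g • s a (t' c) - s a (t' c)) (fun c d => by
          rw [hact, map_sub, TrivSqZeroExt.snd_sub,
            show φ' d (s (g.down a) (t' c)) = _ from AlgHom.congr_fun (hφs' d (g.down a)) (t' c),
            show φ' d (s a (t' c)) = _ from AlgHom.congr_fun (hφs' d a) (t' c), if_pos rfl, if_neg (Ne.symm ha)]
          simp [hδt']) R hRx (fun c => hg _)
      exact absurd (this.trans hR1) (by norm_num)
    have hw : s j (t 0) ∈ x := by
      rw [hx, ← show β (t 0) = pt (s j (t 0)) from AlgHom.congr_fun hij (t 0)]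
      exact ht 0
    refine not_regular_of_inertia (SG.{u} n) hinj x ?_ hcodim (φ 0) (hφx 0) σ (fun a => ?_) (s j (t 0)) hw ?_ hreg
    · rw [IsLocalization.AtPrime.ringKrullDim_eq_height x]
      exact WithBot.coe_le_coe.2 (le_trans (by norm_num) hhx)
    · have h1 := AlgHom.congr_fun (hfst 0) (σ • a)
      have h2 := AlgHom.congr_fun (hfst 0) a
      change TrivSqZeroExt.fst (φ 0 (σ • a)) = pt (σ • a) at h1
      change TrivSqZeroExt.fst (φ 0 a) = pt a at h2
      rw [h1, h2, hσ]
    · rw [hact, show σ.down j = i from Equiv.swap_apply_right _ _, hD, hD, if_neg hne, if_pos rfl, hδt, if_pos rfl]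
      exact zero_ne_one
  · intro hdist
    refine regular_of_free (SG.{u} n) hinj x fun g hg => ULift.ext _ _ (Equiv.ext fun i => hdist ?_)
    refine AlgHom.ext fun b => ?_
    have h := (hx _).1 (hg (s i b))
    rw [hact, map_sub, sub_eq_zero] at h
    exact h

end Groth.Agent.SymCurve
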