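import Groth.Agent.Staircase.Basis
import Mathlib

/-!
# The polynomial ring as an algebra over the symmetric invariants
-/

set_option autoImplicit false
set_option linter.style.haveILetI false
set_option maxHeartbeats 100000
set_option synthInstance.maxHeartbeats 20000

universe u

open MvPolynomial

namespace Groth.Agent.SymCurve

/-- The lifted symmetric group. -/
abbrev SG (n : ℕ) : Type u := ULift.{u} (Equiv.Perm (Fin n))

variable (R : Type u) [CommRing R] (n : ℕ)

/-- Permutation of the variables. -/
noncomputable scoped instance polyAction : MulSemiringAction (SG.{u} n) (MvPolynomial (Fin n) R) where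
  smul g p := rename g.down p
  one_smul p := rename_id_apply p
  mul_smul g h p := (rename_rename (h.down : Fin n → Fin n) (g.down : Fin n → Fin n) p).symm
  smul_zero g := map_zero (rename (R := R) (g.down : Fin n → Fin n))
  smul_add g := map_add (rename (R := R) (g.down : Fin n → Fin n))
  smul_one g := map_one (rename (R := R) (g.down : Fin n → Fin n))
  smul_mul g := map_mul (rename (R := R) (g.down : Fin n → Fin n))

theorem smul_poly (g : SG.{u} n) (p : MvPolynomial (Fin n) R) : g • p = rename g.down p := rfl

theorem smul_X (g : SG.{u} n) (i : Fin n) : g • (X i : MvPolynomial (Fin n) R) = X (g.down i) := rename_X _ _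

scoped instance polyComm : SMulCommClass (SG.{u} n) R (MvPolynomial (Fin n) R) :=
  ⟨fun g r p => map_smul (rename (R := R) (g.down : Fin n → Fin n)) r p⟩

theorem mem_fixed {p : MvPolynomial (Fin n) R} :
    p ∈ FixedPoints.subalgebra R (MvPolynomial (Fin n) R) (SG.{u} n) ↔ p.IsSymmetric :=
  ⟨fun h σ => h ⟨σ⟩, fun h g => h g.down⟩

/-- The polynomial ring is flat over the symmetric invariants. -/
theorem flat_fixed : Module.Flat (FixedPoints.subalgebra R (MvPolynomial (Fin n) R) (SG.{u} n))
    (MvPolynomial (Fin n) R) := by
  classical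
  let P₀ := FixedPoints.subalgebra R (MvPolynomial (Fin n) R) (SG.{u} n)
  let ev : MvPolynomial (Fin n) R →ₐ[R] P₀ :=
    (aeval (Staircase.e n R)).codRestrict P₀ fun p => by
      rw [mem_fixed, ← mem_symmetricSubalgebra]
      have h : aeval (Staircase.e n R) p = ↑(esymmAlgHom (Fin n) R n p) := by
        rw [esymmAlgHom_apply]
      rw [h]
      exact Subtype.mem _
  have hev : Function.Bijective ev := by
    have hb := esymmAlgHom_fin_bijective (R := R) n
    refine ⟨fun p q h => hb.1 (Subtype.ext ?_), fun s => ?_⟩
    · rw [esymmAlgHom_apply, esymmAlgHom_apply]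
      exact congrArg Subtype.val h
    · obtain ⟨p, hp⟩ := hb.2 ⟨s.1, (mem_symmetricSubalgebra _).2 ((mem_fixed R n).1 s.2)⟩
      refine ⟨p, Subtype.ext ?_⟩
      have h2 := congrArg Subtype.val hp
      rw [esymmAlgHom_apply] at h2
      exact h2
  let L : (Staircase.D n → P₀) →ₗ[P₀] MvPolynomial (Fin n) R :=
    Fintype.linearCombination P₀ fun d : Staircase.D n => ∏ i : Fin n, (X i : MvPolynomial (Fin n) R) ^ (d i : ℕ)
  have hL : ∀ p : Staircase.D n → MvPolynomial (Fin n) R, L (fun d => ev (p d)) = Staircase.comb n R p := fun p => by
    simp only [L, Fintype.linearCombination_apply, Staircase.comb]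
    exact Finset.sum_congr rfl fun d _ => rfl
  have hLb : Function.Bijective L := by
    refine ⟨fun a b h => ?_, fun y => ?_⟩
    · choose p hp using fun d => hev.2 (a d)
      choose q hq using fun d => hev.2 (b d)
      have ha : a = fun d => ev (p d) := funext fun d => (hp d).symm
      have hb : b = fun d => ev (q d) := funext fun d => (hq d).symm
      rw [ha, hb, hL, hL] at h
      rw [ha, hb, (Staircase.comb_bijective n R).1 h]
    · obtain ⟨p, hp⟩ := (Staircase.comb_bijective n R).2 y
      exact ⟨fun d => ev (p d), (hL p).trans hp⟩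
  exact Module.Flat.of_linearEquiv (LinearEquiv.ofBijective L hLb).symm

end Groth.Agent.SymCurve
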