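import Groth.Agent.SymCurve.Core
import Mathlib.RingTheory.Etale.Kaehler
import Mathlib.GroupTheory.CosetCover

/-!
# Separating coordinates on powers of a smooth algebra of relative dimension one
-/

set_option autoImplicit false
set_option linter.style.haveILetI false
set_option maxHeartbeats 1000000

universe u

open MvPolynomial KaehlerDifferential IsLocalRing

namespace Groth.Agent.SymCurve

variable {R B A : Type u} [CommRing R] [CommRing B] [Algebra R B] [CommRing A] [Algebra R A] {n : ℕ}

/-- Formal etaleness over a polynomial ring from smoothness and a basis of differentials. -/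
theorem formallyEtale_of_kaehler_basis {k A : Type u} [CommRing k] [CommRing A] [Algebra k A] {n : ℕ} [Algebra (MvPolynomial (Fin n) k) A]
    [IsScalarTower k (MvPolynomial (Fin n) k) A] [Algebra.FormallySmooth k A]
    (hspan : Submodule.span A (Set.range fun i : Fin n => KaehlerDifferential.D k A
      (algebraMap (MvPolynomial (Fin n) k) A (MvPolynomial.X i))) = ⊤)
    (hind : ∀ f : Fin n → A, ∑ i, f i • KaehlerDifferential.D k A
      (algebraMap (MvPolynomial (Fin n) k) A (MvPolynomial.X i)) = 0 → ∀ i, f i = 0) :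
    Algebra.FormallyEtale (MvPolynomial (Fin n) k) A := by
  classical
  let b := (KaehlerDifferential.mvPolynomialBasis k (Fin n)).baseChange A
  have hb : ∀ i, KaehlerDifferential.mapBaseChange k (MvPolynomial (Fin n) k) A (b i) =
      KaehlerDifferential.D k A (algebraMap (MvPolynomial (Fin n) k) A (MvPolynomial.X i)) := fun i => by
    rw [Module.Basis.baseChange_apply, KaehlerDifferential.mapBaseChange_tmul, one_smul,
      KaehlerDifferential.mvPolynomialBasis_apply, KaehlerDifferential.map_D]
  have hinj : Function.Injective (KaehlerDifferential.mapBaseChange k (MvPolynomial (Fin n) k) A) := by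
    refine (injective_iff_map_eq_zero _).2 fun t ht => ?_
    rw [← b.sum_repr t, map_sum] at ht
    simp only [map_smul, hb] at ht
    refine b.repr.injective ?_
    ext i
    rw [map_zero]
    exact hind _ ht i
  refine ⟨?_, ?_⟩
  · refine subsingleton_of_forall_eq 0 fun w => ?_
    obtain ⟨v, rfl⟩ := KaehlerDifferential.map_surjective k (MvPolynomial (Fin n) k) A w
    refine ((KaehlerDifferential.exact_mapBaseChange_map k (MvPolynomial (Fin n) k) A) v).2 ?_
    obtain ⟨f, rfl⟩ := (Submodule.mem_span_range_iff_exists_fun A).1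
      (hspan ▸ Submodule.mem_top : v ∈ Submodule.span A (Set.range fun i : Fin n =>
        KaehlerDifferential.D k A (algebraMap (MvPolynomial (Fin n) k) A (MvPolynomial.X i))))
    exact ⟨∑ i, f i • b i, by simp [map_sum, hb]⟩
  · refine subsingleton_of_forall_eq 0 fun z => ?_
    have hz : Algebra.H1Cotangent.δ k (MvPolynomial (Fin n) k) A z = 0 := hinj (by
      rw [map_zero]
      exact (Algebra.H1Cotangent.exact_δ_mapBaseChange k _ A).apply_apply_eq_zero z)
    obtain ⟨y, rfl⟩ := (Algebra.H1Cotangent.exact_map_δ k _ A z).1 hz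
    rw [Subsingleton.elim y 0, map_zero]

/-- A tensor power, by its universal property. -/
structure IsPow (s : Fin n → B →ₐ[R] A) : Prop where
  ext : ∀ {C : Type u} [CommRing C] [Algebra R C] (F F' : A →ₐ[R] C), (∀ i, F.comp (s i) = F'.comp (s i)) → F = F'
  desc : ∀ {C : Type u} [CommRing C] [Algebra R C] (ψ : Fin n → (B →ₐ[R] C)),
    ∃ F : A →ₐ[R] C, ∀ i, F.comp (s i) = ψ i

/-- The differential of an element does not vanish at a prime. -/
def NonDeg (R : Type u) [CommRing R] {B : Type u} [CommRing B] [Algebra R B] (t : B) (Q : Ideal B) [Q.IsPrime] :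
    Prop :=
  D R (Localization.AtPrime Q) (algebraMap B (Localization.AtPrime Q) t) ∉
    maximalIdeal (Localization.AtPrime Q) • (⊤ : Submodule (Localization.AtPrime Q) Ω[Localization.AtPrime Q⁄R])

theorem nonDeg_congr {t : B} {Q Q' : Ideal B} [Q.IsPrime] [Q'.IsPrime] (h : Q = Q') :
    NonDeg R t Q ↔ NonDeg R t Q' := by
  subst h; rfl

variable (R) in
/-- Smooth of relative dimension one, on principal opens. -/
def IsCurveAlg (B : Type u) [CommRing B] [Algebra R B] : Prop :=
  ∀ Q : Ideal B, Q.IsPrime →
    ∃ g ∉ Q, Algebra.IsStandardSmoothOfRelativeDimension 1 R (Localization.Away g)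

theorem exists_omega_equiv (hB : IsCurveAlg R B) (Q : Ideal B) [Q.IsPrime] :
    Algebra.FormallySmooth R (Localization.AtPrime Q) ∧
      Nonempty (Ω[Localization.AtPrime Q⁄R] ≃ₗ[Localization.AtPrime Q] Localization.AtPrime Q) := by
  obtain ⟨g, hg, hss⟩ := hB Q ‹_›
  haveI := hss
  let C := Localization.Away g
  let L := Localization.AtPrime Q
  letI : Algebra C L := IsLocalization.localizationAlgebraOfSubmonoidLe C L (Submonoid.powers g)
    Q.primeCompl (Submonoid.powers_le.2 hg)
  haveI : IsScalarTower B C L := IsLocalization.localization_isScalarTower_of_submonoid_le C L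
    (Submonoid.powers g) Q.primeCompl (Submonoid.powers_le.2 hg)
  haveI : IsLocalization (Q.primeCompl.map (algebraMap B C)) L :=
    IsLocalization.isLocalization_of_submonoid_le C L (Submonoid.powers g) Q.primeCompl (Submonoid.powers_le.2 hg)
  haveI : IsScalarTower R C L := IsScalarTower.of_algebraMap_eq fun x => by
    rw [IsScalarTower.algebraMap_apply R B L, IsScalarTower.algebraMap_apply B C L,
      ← IsScalarTower.algebraMap_apply R B C]
  haveI : Algebra.IsStandardSmooth R C := Algebra.IsStandardSmoothOfRelativeDimension.isStandardSmooth 1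
  haveI : Algebra.FormallyEtale C L := .of_isLocalization (Q.primeCompl.map (algebraMap B C))
  haveI : Nontrivial C := (algebraMap C L).domain_nontrivial
  refine ⟨Algebra.FormallySmooth.comp R C L, ?_⟩
  let e := KaehlerDifferential.tensorKaehlerEquivOfFormallyEtale R C L
  haveI : Module.Free L (Ω[L⁄R]) := Module.Free.of_equiv e
  haveI : Module.Finite L (Ω[L⁄R]) := Module.Finite.equiv e
  have h1 : Module.finrank L (Ω[L⁄R]) = 1 := by
    rw [← e.finrank_eq, Module.finrank_baseChange]
    exact Module.finrank_eq_of_rank_eq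
      (Algebra.IsStandardSmoothOfRelativeDimension.rank_kaehlerDifferential 1)
  exact ⟨LinearEquiv.ofFinrankEq _ _ (by rw [h1, Module.finrank_self])⟩

/-- A nondegenerate element is an etale coordinate: unique lifting. -/
theorem existsUnique_lift (hB : IsCurveAlg R B) (Q : Ideal B) [Q.IsPrime] {t : B} (ht : NonDeg R t Q)
    {C : Type u} [CommRing C] [Algebra R C] (I : Ideal C) (hI : I ^ 2 = ⊥) (ψ : B →ₐ[R] C ⧸ I)
    (hψ : ∀ b, b ∉ Q → IsUnit (ψ b)) (c : C) (hc : Ideal.Quotient.mk I c = ψ t) :
    (∃ φ : B →ₐ[R] C, (Ideal.Quotient.mkₐ R I).comp φ = ψ ∧ φ t = c) ∧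
    ∀ φ φ' : B →ₐ[R] C, (Ideal.Quotient.mkₐ R I).comp φ = ψ → φ t = c →
      (Ideal.Quotient.mkₐ R I).comp φ' = ψ → φ' t = c → φ = φ' := by
  classical
  obtain ⟨hsm, ⟨e⟩⟩ := exists_omega_equiv hB Q
  let L := Localization.AtPrime Q
  let P := MvPolynomial (Fin 1) R
  let w : Ω[L⁄R] := D R L (algebraMap B L t)
  have hu : IsUnit (e w) := by
    rw [← notMem_maximalIdeal]
    intro h
    apply ht
    have hw : w = e w • e.symm 1 := by
      apply e.injective
      rw [map_smul, e.apply_symm_apply, smul_eq_mul, mul_one]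
    rw [show D R L (algebraMap B L t) = e w • e.symm 1 from hw]
    exact Submodule.smul_mem_smul h Submodule.mem_top
  letI algPL : Algebra P L := (aeval (R := R) fun _ : Fin 1 => algebraMap B L t).toRingHom.toAlgebra
  haveI : IsScalarTower R P L := IsScalarTower.of_algebraMap_eq fun r => (AlgHom.commutes _ r).symm
  have hX : ∀ i, algebraMap P L (X i) = algebraMap B L t := fun i => aeval_X _ i
  haveI : Algebra.FormallyEtale P L := by
    refine formallyEtale_of_kaehler_basis (k := R) (A := L) ?_ fun f hf i => ?_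
    · refine eq_top_iff.2 fun v _ => ?_
      have hv : v = (e v * hu.unit⁻¹.1) • D R L (algebraMap P L (X 0)) := by
        apply e.injective
        rw [map_smul, hX, smul_eq_mul, mul_assoc, show hu.unit⁻¹.1 * e (D R L (algebraMap B L t)) = 1 from hu.val_inv_mul, mul_one]
      rw [hv]
      exact Submodule.smul_mem _ _ (Submodule.subset_span ⟨0, rfl⟩)
    · rw [Fin.sum_univ_one, hX] at hf
      have h2 := congrArg e hf
      rw [map_smul, map_zero, smul_eq_mul] at h2
      rw [Subsingleton.elim i 0]
      exact (hu.mul_left_eq_zero).1 h2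
  letI : Algebra P C := (aeval (R := R) fun _ : Fin 1 => c).toRingHom.toAlgebra
  haveI : IsScalarTower R P C := IsScalarTower.of_algebraMap_eq fun r => (AlgHom.commutes _ r).symm
  -- extension of maps on B to the local ring
  have ext' : ∀ {D' : Type u} [CommRing D'] [Algebra R D'] [Algebra P D'] [IsScalarTower R P D']
      (φ : B →ₐ[R] D') (_ : ∀ b, b ∉ Q → IsUnit (φ b)) (_ : φ t = algebraMap P D' (X 0)),
      ∃ Φ : L →ₐ[P] D', ∀ b, Φ (algebraMap B L b) = φ b := by
    intro D' _ _ _ _ φ hφ hφt
    let Φ₀ : L →ₐ[R] D' := IsLocalization.liftAlgHom (M := Q.primeCompl) (f := φ) fun y => hφ _ y.2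
    have hΦ₀ : ∀ b, Φ₀ (algebraMap B L b) = φ b := fun b => IsLocalization.lift_eq _ b
    refine ⟨{ Φ₀ with commutes' := fun p => ?_ }, hΦ₀⟩
    have h : (Φ₀.comp (IsScalarTower.toAlgHom R P L)) = IsScalarTower.toAlgHom R P D' :=
      algHom_ext fun i => by
        rw [Subsingleton.elim i 0, AlgHom.comp_apply, IsScalarTower.coe_toAlgHom', hX, hΦ₀, hφt]
        rfl
    exact AlgHom.congr_fun h p
  have hnil : ∀ y : C, IsUnit (Ideal.Quotient.mk I y) → IsUnit y := by
    intro y hy
    obtain ⟨z, hz⟩ := hy.exists_right_inv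
    obtain ⟨z, rfl⟩ := Ideal.Quotient.mk_surjective z
    rw [← map_mul, ← (Ideal.Quotient.mk I).map_one, Ideal.Quotient.eq] at hz
    have h2 : IsUnit (1 + (y * z - 1)) :=
      IsNilpotent.isUnit_one_add ⟨2, by rw [← Ideal.mem_bot, ← hI]; exact Ideal.pow_mem_pow hz 2⟩
    rw [add_sub_cancel] at h2
    exact isUnit_of_mul_isUnit_left h2
  have hCX : algebraMap P C (X 0) = c := aeval_X _ _
  obtain ⟨Ψ, hΨ⟩ := ext' ψ hψ (by
    rw [show algebraMap P (C ⧸ I) (X 0) = Ideal.Quotient.mk I (algebraMap P C (X 0)) from rfl, hCX, hc])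
  have hbij := Algebra.FormallyEtale.comp_bijective P L I hI
  constructor
  · obtain ⟨Φ, hΦ⟩ := hbij.2 Ψ
    refine ⟨(Φ.restrictScalars R).comp (IsScalarTower.toAlgHom R B L), AlgHom.ext fun b => ?_, ?_⟩
    · change (Ideal.Quotient.mkₐ P I).comp Φ (algebraMap B L b) = ψ b
      rw [hΦ, hΨ]
    · change Φ (algebraMap B L t) = c
      rw [← hX 0, AlgHom.commutes, hCX]
  · intro φ φ' h1 h2 h1' h2'
    have hun : ∀ φ : B →ₐ[R] C, (Ideal.Quotient.mkₐ R I).comp φ = ψ → ∀ b, b ∉ Q → IsUnit (φ b) :=
      fun φ h b hb => hnil _ (by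
        have := AlgHom.congr_fun h b
        change Ideal.Quotient.mk I (φ b) = ψ b at this
        rw [this]; exact hψ b hb)
    obtain ⟨Φ, hΦ⟩ := ext' φ (hun φ h1) (by rw [h2, hCX])
    obtain ⟨Φ', hΦ'⟩ := ext' φ' (hun φ' h1') (by rw [h2', hCX])
    have : Φ = Φ' := hbij.1 <| by
      apply AlgHom.coe_ringHom_injective
      refine IsLocalization.ringHom_ext Q.primeCompl (RingHom.ext fun b => ?_)
      change Ideal.Quotient.mk I (Φ (algebraMap B L b)) = Ideal.Quotient.mk I (Φ' (algebraMap B L b))
      rw [hΦ, hΦ']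
      exact (AlgHom.congr_fun h1 b).trans (AlgHom.congr_fun h1' b).symm
    exact AlgHom.ext fun b => by rw [← hΦ, ← hΦ', this]

/-- Avoiding finitely many proper submodules, over an infinite residue domain. -/
theorem exists_notMem {M : Type*} [AddCommGroup M] [Module R M] (p : Ideal R) [Infinite (R ⧸ p)] {ι : Type*}
    (N : ι → Submodule R M) (F : Finset ι) (hne : ∀ j ∈ F, N j ≠ ⊤)
    (hsat : ∀ j ∈ F, ∀ r : R, r ∉ p → ∀ m : M, r • m ∈ N j → m ∈ N j) :
    ∃ m : M, ∀ j ∈ F, m ∉ N j := by
  classical
  induction F using Finset.induction with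
  | empty => exact ⟨0, fun j hj => absurd hj (Finset.notMem_empty _)⟩
  | insert a F ha ih =>
    obtain ⟨b, hb⟩ := ih (fun j hj => hne j (Finset.mem_insert_of_mem hj))
      (fun j hj => hsat j (Finset.mem_insert_of_mem hj))
    by_cases hba : b ∈ N a
    swap
    · exact ⟨b, fun j hj => (Finset.mem_insert.1 hj).elim (fun h => h ▸ hba) (hb j)⟩
    obtain ⟨c, hc⟩ : ∃ c, c ∉ N a := by
      by_contra hall
      push Not at hall
      exact hne a (Finset.mem_insert_self _ _) (eq_top_iff.2 fun x _ => hall x)
    have hbad : ∀ j ∈ F, {r : R ⧸ p | ∃ r' : R, Ideal.Quotient.mk p r' = r ∧ c + r' • b ∈ N j}.Subsingleton := by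
      rintro j hj _ ⟨r₁, rfl, h₁⟩ _ ⟨r₂, rfl, h₂⟩
      by_contra hne'
      have h3 : (r₁ - r₂) • b ∈ N j := by
        have := (N j).sub_mem h₁ h₂
        rwa [add_sub_add_left_eq_sub, ← sub_smul] at this
      exact hb j hj (hsat j (Finset.mem_insert_of_mem hj) _
        (fun hp => hne' (Ideal.Quotient.eq.2 hp)) b h3)
    have hfin : (⋃ j ∈ F, {r : R ⧸ p | ∃ r' : R, Ideal.Quotient.mk p r' = r ∧ c + r' • b ∈ N j}).Finite :=
      F.finite_toSet.biUnion fun j hj => (hbad j hj).finite
    obtain ⟨r, hr⟩ := hfin.exists_notMem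
    obtain ⟨r', rfl⟩ := Ideal.Quotient.mk_surjective r
    refine ⟨c + r' • b, fun j hj => ?_⟩
    rcases Finset.mem_insert.1 hj with rfl | hj
    · intro h
      exact hc (by simpa using (N j).sub_mem h ((N j).smul_mem r' hba))
    · intro h
      exact hr (Set.mem_biUnion hj ⟨r', rfl, h⟩)

variable (s : Fin n → B →ₐ[R] A)

/-- Good separating element at a point of the power. -/
structure Good (t : B) (x : Ideal A) [x.IsPrime] : Prop where
  sep : ∀ i j, (∀ b, s i b - s j b ∈ x) ∨ s i t - s j t ∉ x
  nonDeg : ∀ i, NonDeg R t (x.comap (s i).toRingHom)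

/-- Over an infinite residue field there are good separating elements. -/
theorem exists_good (hB : IsCurveAlg R B) (x : Ideal A) [x.IsPrime]
    [Infinite (R ⧸ x.comap (algebraMap R A))] : ∃ t, Good s t x := by
  classical
  set p := x.comap (algebraMap R A)
  let Q : Fin n → Ideal B := fun i => x.comap (s i).toRingHom
  let N : (Fin n × Fin n) ⊕ Fin n → Submodule R B
    | .inl (i, j) =>
      { carrier := {b | s i b - s j b ∈ x}
        add_mem' := fun {a b} ha hb => by
          simp only [Set.mem_ofPred_eq, map_add, add_sub_add_comm] at ha hb ⊢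
          exact add_mem ha hb
        zero_mem' := by simp
        smul_mem' := fun r {b} hb => by
          simp only [Set.mem_ofPred_eq, map_smul, ← smul_sub] at hb ⊢
          exact Submodule.smul_of_tower_mem x r hb }
    | .inr i =>
      ((maximalIdeal (Localization.AtPrime (Q i)) •
          (⊤ : Submodule (Localization.AtPrime (Q i)) Ω[Localization.AtPrime (Q i)⁄R])).restrictScalars R).comap
        ((D R (Localization.AtPrime (Q i))).toLinearMap.comp
          (IsScalarTower.toAlgHom R B (Localization.AtPrime (Q i))).toLinearMap)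
  have hsat : ∀ j, ∀ r : R, r ∉ p → ∀ m : B, r • m ∈ N j → m ∈ N j := by
    rintro (⟨i, j⟩ | i) r hr m hm
    · change s i (r • m) - s j (r • m) ∈ x at hm
      rw [map_smul, map_smul, ← smul_sub, Algebra.smul_def] at hm
      exact (Ideal.IsPrime.mem_or_mem ‹_› hm).resolve_left hr
    · simp only [N, Submodule.mem_comap, map_smul] at hm ⊢
      have hu : IsUnit (algebraMap R (Localization.AtPrime (Q i)) r) := by
        rw [IsScalarTower.algebraMap_apply R B (Localization.AtPrime (Q i))]
        refine IsLocalization.map_units _ (⟨algebraMap R B r, fun h => hr ?_⟩ : (Q i).primeCompl)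
        show algebraMap R A r ∈ x
        rw [← (s i).commutes r]
        exact h
      rw [Submodule.restrictScalars_mem] at hm ⊢
      rw [← algebraMap_smul (Localization.AtPrime (Q i)) r] at hm
      exact (Submodule.smul_mem_iff_of_isUnit _ hu).1 hm
  let F := Finset.univ.filter fun j => N j ≠ ⊤
  obtain ⟨t, ht⟩ := exists_notMem p N F (fun j hj => (Finset.mem_filter.1 hj).2) fun j _ => hsat j
  refine ⟨t, fun i j => ?_, fun i hmem => ?_⟩
  · by_cases h : N (.inl (i, j)) = ⊤
    · exact Or.inl fun b => (h.ge (Submodule.mem_top (x := b)) : b ∈ N (.inl (i, j)))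
    · exact Or.inr (ht (.inl (i, j)) (Finset.mem_filter.2 ⟨Finset.mem_univ _, h⟩))
  · have hQ : N (.inr i) = ⊤ := by
      by_contra h
      exact ht (.inr i) (Finset.mem_filter.2 ⟨Finset.mem_univ _, h⟩) hmem
    obtain ⟨-, ⟨e⟩⟩ := exists_omega_equiv hB (Q i)
    let L := Localization.AtPrime (Q i)
    haveI : Algebra.FormallyEtale B L := .of_isLocalization (Q i).primeCompl
    let T := KaehlerDifferential.tensorKaehlerEquivOfFormallyEtale R B L
    have hall : ∀ v : Ω[L⁄R], v ∈ maximalIdeal L • (⊤ : Submodule L Ω[L⁄R]) := fun v => by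
      obtain ⟨w, rfl⟩ := T.surjective v
      induction w with
      | zero => rw [map_zero]; exact zero_mem _
      | add a b ha hb => rw [map_add]; exact add_mem ha hb
      | tmul l ω =>
        have : ω ∈ Submodule.span B (Set.range (D R B)) := by rw [span_range_derivation]; trivial
        induction this using Submodule.span_induction with
        | mem _ hω =>
          obtain ⟨b, rfl⟩ := hω
          rw [KaehlerDifferential.tensorKaehlerEquivOfFormallyEtale_apply, mapBaseChange_tmul, map_D]
          exact Submodule.smul_mem _ _ (hQ.ge (Submodule.mem_top (x := b)))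
        | zero => rw [TensorProduct.tmul_zero, map_zero]; exact zero_mem _
        | add a b _ _ ha hb => rw [TensorProduct.tmul_add, map_add]; exact add_mem ha hb
        | smul b ω _ hω =>
          rw [TensorProduct.tmul_smul, ← algebraMap_smul L b, map_smul]
          exact Submodule.smul_mem _ _ hω
    have h1 : (1 : L) ∈ maximalIdeal L := by
      have h2 : ∀ v ∈ maximalIdeal L • (⊤ : Submodule L Ω[L⁄R]), e v ∈ maximalIdeal L := by
        intro v hv
        induction hv using Submodule.smul_induction_on' with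
        | smul r hr v _ => rw [map_smul, smul_eq_mul]; exact Ideal.mul_mem_right _ _ hr
        | add a _ b _ ha hb => rw [map_add]; exact add_mem ha hb
      have h3 := h2 _ (hall (e.symm 1))
      rwa [e.apply_symm_apply] at h3
    exact (maximalIdeal.isMaximal L).ne_top ((Ideal.eq_top_iff_one _).2 h1)

variable [MulSemiringAction (SG.{u} n) A] [SMulCommClass (SG.{u} n) R A]
  (hact : ∀ (g : SG.{u} n) i b, g • s i b = s (g.down i) b)

include hact in
/-- Goodness is invariant. -/
theorem Good.smul {t : B} {x x' : Ideal A} [x.IsPrime] [x'.IsPrime] (h : Good s t x) (g : SG.{u} n)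
    (hg : ∀ a, a ∈ x' ↔ g • a ∈ x) : Good s t x' := by
  have hm : ∀ i b, s i b ∈ x' ↔ s (g.down i) b ∈ x := fun i b => by rw [hg, hact]
  have hm2 : ∀ i j b, s i b - s j b ∈ x' ↔ s (g.down i) b - s (g.down j) b ∈ x := fun i j b => by
    rw [hg, smul_sub, hact, hact]
  refine ⟨fun i j => (h.sep (g.down i) (g.down j)).imp (fun h b => (hm2 i j b).2 (h b))
    fun h h' => h ((hm2 i j t).1 h'), fun i => ?_⟩
  exact (nonDeg_congr (Ideal.ext fun b => (hm i b))).2 (h.nonDeg (g.down i))

include hact in
/-- A good element gives a separating chart. -/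
theorem Good.isSepChart (hs : IsPow s) (hB : IsCurveAlg R B) {t : B} {x : Ideal A} [x.IsPrime] (h : Good s t x) :
    IsSepChart (R := R) (fun i => s i t) x := by
  classical
  refine ⟨?_, fun g hg a => ?_⟩
  swap
  · have h1 : ((Ideal.Quotient.mkₐ R x).comp (MulSemiringAction.toAlgHom R A g)) = Ideal.Quotient.mkₐ R x :=
      hs.ext _ _ fun i => AlgHom.ext fun b => by
        change Ideal.Quotient.mk x (g • s i b) = Ideal.Quotient.mk x (s i b)
        rw [hact, Ideal.Quotient.eq]
        exact ((h.sep (g.down i) i).resolve_right (not_not_intro (hg i))) b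
    exact Ideal.Quotient.eq.1 (AlgHom.congr_fun h1 a)
  let P := MvPolynomial (Fin n) R
  letI algPA : Algebra P A := (MvPolynomial.aeval (R := R) fun i => s i t).toRingHom.toAlgebra
  haveI : IsScalarTower R P A := IsScalarTower.of_algebraMap_eq fun r => (AlgHom.commutes _ r).symm
  let L := Localization.AtPrime x
  haveI : IsScalarTower R P L := IsScalarTower.of_algebraMap_eq fun r => by
    rw [IsScalarTower.algebraMap_apply R A L, IsScalarTower.algebraMap_apply P A L,
      ← IsScalarTower.algebraMap_apply R P A]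
  show Algebra.FormallyEtale P L
  refine Algebra.FormallyEtale.iff_comp_bijective.2 fun C _ _ I hI => ?_
  letI : Algebra R C := ((algebraMap P C).comp (algebraMap R P)).toAlgebra
  haveI : IsScalarTower R P C := IsScalarTower.of_algebraMap_eq fun _ => rfl
  let inA : A →ₐ[R] L := IsScalarTower.toAlgHom R A L
  have hst : ∀ i, algebraMap P L (X i) = algebraMap A L (s i t) := fun i => by
    rw [IsScalarTower.algebraMap_apply P A L]
    exact congrArg _ (aeval_X _ i)
  have hnil : ∀ y : C, IsUnit (Ideal.Quotient.mk I y) → IsUnit y := by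
    intro y hy
    obtain ⟨z, hz⟩ := hy.exists_right_inv
    obtain ⟨z, rfl⟩ := Ideal.Quotient.mk_surjective z
    rw [← map_mul, ← (Ideal.Quotient.mk I).map_one, Ideal.Quotient.eq] at hz
    have h2 : IsUnit (1 + (y * z - 1)) :=
      IsNilpotent.isUnit_one_add ⟨2, by rw [← Ideal.mem_bot, ← hI]; exact Ideal.pow_mem_pow hz 2⟩
    rw [add_sub_cancel] at h2
    exact isUnit_of_mul_isUnit_left h2
  constructor
  · intro F F' hFF
    have hcomp : ∀ i, ((F.restrictScalars R).comp inA).comp (s i) = ((F'.restrictScalars R).comp inA).comp (s i) := by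
      intro i
      refine (existsUnique_lift hB _ (h.nonDeg i) I hI
        ((((Ideal.Quotient.mkₐ R I).comp (F.restrictScalars R)).comp inA).comp (s i))
        (fun b hb => (IsLocalization.map_units L (⟨s i b, hb⟩ : x.primeCompl)).map
          ((Ideal.Quotient.mkₐ R I).comp (F.restrictScalars R))) (algebraMap P C (X i)) ?_).2 _ _ rfl ?_ ?_ ?_
      · change _ = Ideal.Quotient.mk I (F (algebraMap A L (s i t)))
        rw [← hst, AlgHom.commutes]
      · change F (algebraMap A L (s i t)) = _
        rw [← hst, AlgHom.commutes]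
      · refine AlgHom.ext fun b => ?_
        exact (AlgHom.congr_fun hFF (algebraMap A L (s i b))).symm
      · change F' (algebraMap A L (s i t)) = _
        rw [← hst, AlgHom.commutes]
    have h2 := hs.ext _ _ hcomp
    apply AlgHom.coe_ringHom_injective
    refine IsLocalization.ringHom_ext x.primeCompl (RingHom.ext fun a => ?_)
    exact AlgHom.congr_fun h2 a
  · intro f
    let f₀ : A →ₐ[R] C ⧸ I := (f.restrictScalars R).comp inA
    have hu : ∀ a, a ∉ x → IsUnit (f₀ a) := fun a ha =>
      (IsLocalization.map_units L (⟨a, ha⟩ : x.primeCompl)).map f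
    choose φ hφ hφt using fun i => (existsUnique_lift hB _ (h.nonDeg i) I hI (f₀.comp (s i))
      (fun b hb => hu _ hb) (algebraMap P C (X i)) (by
        change _ = f (algebraMap A L (s i t))
        rw [← hst, AlgHom.commutes]
        rfl)).1
    obtain ⟨F₀, hF₀⟩ := hs.desc φ
    have hmk : (Ideal.Quotient.mkₐ R I).comp F₀ = f₀ := hs.ext _ _ fun i => by
      rw [AlgHom.comp_assoc, hF₀, hφ]
    let F₁ : L →ₐ[R] C := IsLocalization.liftAlgHom (M := x.primeCompl) (f := F₀) fun y => hnil _ (by
      have := AlgHom.congr_fun hmk y.1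
      change Ideal.Quotient.mk I (F₀ y.1) = f₀ y.1 at this
      rw [this]; exact hu _ y.2)
    have hF₁ : ∀ a, F₁ (algebraMap A L a) = F₀ a := fun a => IsLocalization.lift_eq _ a
    have h3 : F₁.comp (IsScalarTower.toAlgHom R P L) = IsScalarTower.toAlgHom R P C := algHom_ext fun i => by
      rw [AlgHom.comp_apply, IsScalarTower.coe_toAlgHom', hst, hF₁, IsScalarTower.coe_toAlgHom']
      exact (AlgHom.congr_fun (hF₀ i) t).trans (hφt i)
    let F : L →ₐ[P] C := { F₁ with commutes' := fun p => AlgHom.congr_fun h3 p }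
    refine ⟨F, ?_⟩
    apply AlgHom.coe_ringHom_injective
    refine IsLocalization.ringHom_ext x.primeCompl (RingHom.ext fun a => ?_)
    change Ideal.Quotient.mk I (F₁ (algebraMap A L a)) = f (algebraMap A L a)
    rw [hF₁]
    exact AlgHom.congr_fun hmk a

end Groth.Agent.SymCurve
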